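import Cfsg.Prelude.Def_Sz
import Cfsg.Agent.Lib.Lie.Suzuki.Classes
import Cfsg.Agent.Lib.Lie.Suzuki.Group

/-!
Owner: helper19. Consequences of the classification of simple groups of order prime to three, the latter taken
as a hypothesis.
-/

set_option autoImplicit false

namespace CfsgLib.ThreePrimeUse

universe u

/-- Non-abelian simple groups of order prime to three are Suzuki groups. -/
def ThreePrimeSimple : Prop :=
  ∀ (X : Type u) [Group X] [Finite X], IsSimpleGroup X → ¬ IsMulCommutative X → ¬ 3 ∣ Nat.card X →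
    Cfsg.Lie.IsoSuzuki X

/-- An element of odd prime order of a Suzuki group is real. -/
theorem exists_inverting {X : Type*} [Group X] (h : Cfsg.Lie.IsoSuzuki X) {x : X} {p : ℕ} (hp : p.Prime)
    (hp2 : p ≠ 2) (hx : orderOf x = p) : ∃ n : X, n * x * n⁻¹ = x⁻¹ := by
  obtain ⟨F, _, _, m, hm, hF, ⟨e⟩⟩ := h
  haveI : CharP F 2 := CfsgLib.Lie.Suzuki.charTwo_of_card hF
  obtain ⟨f, hf⟩ : ∃ f : X ≃* Cfsg.Sz F m, f = e.trans (CfsgLib.Lie.Suzuki.equivLie hm hF).symm := ⟨_, rfl⟩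
  have h4 : f x ^ 4 ≠ 1 := fun h4 => by
    have h' := orderOf_dvd_of_pow_eq_one h4
    rw [f.orderOf_eq, hx, show 4 = 2 ^ 2 from rfl] at h'
    exact hp2 ((Nat.prime_dvd_prime_iff_eq hp Nat.prime_two).1 (hp.dvd_of_dvd_pow h'))
  obtain ⟨c, hc⟩ := isConj_iff.1 (CfsgLib.Lie.Suzuki.real_ss hF hm h4)
  refine ⟨f.symm c, f.injective ?_⟩
  rw [map_mul, map_mul, map_inv, map_inv, f.apply_symm_apply, hc]

end CfsgLib.ThreePrimeUse
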