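import Cfsg.Agent.Lib.ThreePrimeUse.Basic
import Cfsg.Agent.Lib.Fusion.PiHomogeneousComplement
import Cfsg.Agent.Lib.OddGated.Hall

/-!
Owner: helper19. A group of order prime to three which is homogeneous for a set of odd primes is separable
for it, so its elements of order prime to the set form a subgroup.
-/

set_option autoImplicit false
set_option linter.style.haveILetI false

namespace CfsgLib.ThreePrimeUse

open Subgroup
open CfsgLib.PiHomogeneous (Homog)
open CfsgLib.OddGated (PiNat CoPiNat SepChain)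

universe u

variable {π : Set ℕ} {G : Type u} [Group G] [Finite G]

/-- No odd prime of the set divides a factor in which its elements of prime order are real. -/
theorem not_dvd_of_inverting (hodd : ∀ p ∈ π, p.Prime ∧ p ≠ 2) (hhom : Homog π G) {X : Type*} [Group X]
    (H : Subgroup G) (f : ↥H →* X) (hf : Function.Surjective f) {p : ℕ} (hpπ : p ∈ π)
    (hinv : ∀ x : X, orderOf x = p → ∃ n : X, n * x * n⁻¹ = x⁻¹) : ¬ p ∣ Nat.card X := by
  intro hd
  obtain ⟨hp, hp2⟩ := hodd p hpπ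
  haveI : Fact p.Prime := ⟨hp⟩
  haveI : Finite X := Finite.of_surjective f hf
  obtain ⟨x, hx⟩ := exists_prime_orderOf_dvd_card' (G := X) p hd
  obtain ⟨n, hn⟩ := hinv x hx
  obtain ⟨n₀, rfl⟩ := hf n
  obtain ⟨L, hL⟩ : ∃ L, L = (zpowers x).comap f := ⟨_, rfl⟩
  have hLm : ∀ l : ↥H, l ∈ L ↔ f l ∈ zpowers x := fun l => by rw [hL]; exact mem_comap
  have hnL : n₀ ∈ normalizer (L : Set ↥H) := by
    refine mem_normalizer_iff.2 fun l => ?_
    rw [hLm, hLm, map_mul, map_mul, map_inv]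
    constructor
    · intro hl
      obtain ⟨j, hj⟩ := mem_zpowers_iff.1 hl
      rw [← hj, ← conj_zpow, hn]
      exact zpow_mem (inv_mem (mem_zpowers x)) _
    · intro hl
      obtain ⟨j, hj⟩ := mem_zpowers_iff.1 hl
      refine mem_zpowers_iff.2 ⟨-j, ?_⟩
      have e : (f n₀)⁻¹ * x * f n₀ = x⁻¹ := by
        have h' := congrArg (fun y => (f n₀)⁻¹ * y⁻¹ * f n₀) hn
        simp only [inv_inv, conj_inv] at h'
        rw [← h']; group
      calc x ^ (-j) = ((f n₀)⁻¹ * x * f n₀) ^ j := by rw [e, inv_zpow, zpow_neg]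
        _ = (f n₀)⁻¹ * x ^ j * f n₀ := by
          have := conj_zpow (i := j) (a := (f n₀)⁻¹) (b := x)
          rwa [inv_inv] at this
        _ = f l := by rw [hj]; group
  obtain ⟨S₀, hS₀⟩ : ∃ S : Sylow p ↥L, S = default := ⟨_, rfl⟩
  obtain ⟨S, hS⟩ : ∃ S, S = ((S₀ : Subgroup ↥L).map L.subtype).map H.subtype := ⟨_, rfl⟩
  have hxS : ∃ z : ↥H, (z : G) ∈ S ∧ f z = x ∧ z ∈ L := by
    have hmap : (S₀ : Subgroup ↥L).map ((f.comp L.subtype).codRestrict (zpowers x) fun l =>
        (hLm l).1 l.2) = ⊤ := by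
      refine Subgroup.eq_top_of_card_eq _ ?_
      rw [Nat.card_zpowers, hx]
      refine ((Nat.dvd_prime hp).1 ?_).resolve_left fun h1 => ?_
      · have h' := Subgroup.card_subgroup_dvd_card ((S₀ : Subgroup ↥L).map ((f.comp L.subtype).codRestrict (zpowers x)
          fun l => (hLm l).1 l.2))
        rwa [Nat.card_zpowers, hx] at h'
      · have hidx := Subgroup.index_map_dvd (f := (f.comp L.subtype).codRestrict (zpowers x) fun l => (hLm l).1 l.2) (H := (S₀ : Subgroup ↥L)) (fun z => by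
          obtain ⟨w, hw⟩ := hf (z : X)
          exact ⟨⟨w, (hLm w).2 (hw ▸ z.2)⟩, Subtype.ext hw⟩)
        rw [Subgroup.eq_bot_of_card_eq _ h1, Subgroup.index_bot, Nat.card_zpowers, hx] at hidx
        exact S₀.not_dvd_index hidx
    have hmem : (⟨x, mem_zpowers x⟩ : zpowers x) ∈ (⊤ : Subgroup (zpowers x)) := mem_top _
    rw [← hmap] at hmem
    obtain ⟨l, hl, he⟩ := hmem
    exact ⟨l.1, hS ▸ mem_map_of_mem _ (mem_map_of_mem _ hl), congrArg Subtype.val he, l.2⟩
  obtain ⟨z, hzS, hfz, -⟩ := hxS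
  -- Frattini
  obtain ⟨g, hgS, j, hgx⟩ : ∃ g : ↥H, (g : G) ∈ normalizer (S : Set G) ∧ ∃ j : ℤ, f g = x ^ j * f n₀ := by
    obtain ⟨φ, hφ⟩ : ∃ φ : MulAut ↥L, ∀ l : ↥L, ((φ l : ↥L) : ↥H) = n₀ * l * n₀⁻¹ := by
      refine ⟨MulAut.conjNormal (⟨n₀, hnL⟩ : normalizer (L : Set ↥H)) |> fun a =>
        (subgroupOfEquivOfLe (le_normalizer (H := L))).symm.trans (a.trans (subgroupOfEquivOfLe le_normalizer)),
        fun l => rfl⟩
    obtain ⟨l, hl⟩ := MulAction.exists_smul_eq ↥L (φ • S₀) S₀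
    refine ⟨(l : ↥H) * n₀, ?_, ?_⟩
    · refine mem_normalizer_iff_map_conj_eq.2 ?_
      rw [hS]
      conv_rhs => rw [← hl, Sylow.coe_subgroup_smul, Sylow.pointwise_smul_def, Subgroup.pointwise_smul_def,
        Subgroup.pointwise_smul_def]
      ext y
      constructor
      · rintro ⟨_, ⟨_, ⟨a, ha, rfl⟩, rfl⟩, rfl⟩
        refine ⟨_, ⟨l * φ a * l⁻¹, ⟨φ a, ⟨a, ha, rfl⟩, rfl⟩, rfl⟩, ?_⟩
        simp [hφ, mul_assoc]
      · rintro ⟨_, ⟨_, ⟨_, ⟨a, ha, rfl⟩, rfl⟩, rfl⟩, rfl⟩
        refine ⟨_, ⟨_, ⟨a, ha, rfl⟩, rfl⟩, ?_⟩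
        show ((l : ↥H) * n₀ : G) * ((a : ↥H) : G) * ((l : ↥H) * n₀ : G)⁻¹ = (((l * φ a * l⁻¹ : ↥L) : ↥H) : G)
        simp [hφ, mul_assoc]
    · have hl' := (hLm l).1 l.2
      obtain ⟨j, hj⟩ := mem_zpowers_iff.1 hl'
      exact ⟨j, by rw [map_mul, hj]⟩
  have hinvx : f g * x * (f g)⁻¹ = x⁻¹ := by
    rw [hgx, _root_.mul_inv_rev, show x ^ j * f n₀ * x * ((f n₀)⁻¹ * (x ^ j)⁻¹) =
      x ^ j * (f n₀ * x * (f n₀)⁻¹) * (x ^ j)⁻¹ by group, hn]
    group
  have hSpi : Cfsg.IsPiSubgroup π S := by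
    refine CfsgLib.PiHomogeneous.pi_of_pGroup hpπ ?_
    rw [hS]
    exact (S₀.isPGroup'.map _).map _
  have hSne : S ≠ ⊥ := fun e => by
    rw [e, mem_bot] at hzS
    have hz1 : z = 1 := Subtype.ext hzS
    rw [hz1, map_one] at hfz
    rw [← hfz, orderOf_one] at hx
    exact hp.ne_one hx.symm
  set C := centralizer (S : Set G) with hC
  set N := normalizer (S : Set G) with hN
  obtain ⟨M, hM⟩ : ∃ M, M = C.relIndex N := ⟨_, rfl⟩
  haveI : (C.subgroupOf N).Normal := ⟨fun c hc a => by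
    rw [mem_subgroupOf] at hc ⊢
    exact CfsgLib.PiHomogeneous.conj_mem_centralizer a.2 hc⟩
  have hgM : (g : G) ^ M ∈ C := by
    have h' := Subgroup.pow_index_mem (C.subgroupOf N) ⟨(g : G), hgS⟩
    rw [hM]
    exact mem_subgroupOf.1 h'
  have hMo : Odd M := Nat.odd_iff.2 (Nat.two_dvd_ne_zero.1 fun h2 =>
    (hodd 2 (hhom S hSne hSpi 2 Nat.prime_two (hM ▸ h2))).2 rfl)
  have hcomm : f g ^ M * x = x * f g ^ M := by
    rw [← map_pow, ← hfz, ← map_mul, ← map_mul]
    exact congrArg f (Subtype.ext (mem_centralizer_iff.1 hgM (z : G) hzS).symm)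
  have hpow : ∀ k : ℕ, f g ^ k * x * (f g ^ k)⁻¹ = if Even k then x else x⁻¹ := by
    intro k
    induction k with
    | zero => simp
    | succ k ih =>
      rw [pow_succ', _root_.mul_inv_rev, show f g * f g ^ k * x * ((f g ^ k)⁻¹ * (f g)⁻¹) =
        f g * (f g ^ k * x * (f g ^ k)⁻¹) * (f g)⁻¹ by group, ih]
      by_cases he : Even k
      · rw [if_pos he, if_neg (by simp [Nat.even_add_one, he]), hinvx]
      · rw [if_neg he, if_pos (Nat.even_add_one.2 he), ← conj_inv, hinvx, inv_inv]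
  have h := hpow M
  rw [hcomm, mul_inv_cancel_right, if_neg (Nat.not_even_iff_odd.2 hMo)] at h
  have h2 : x ^ 2 = 1 := by rw [pow_two]; nth_rw 2 [h]; exact mul_inv_cancel x
  have := orderOf_dvd_of_pow_eq_one h2
  rw [hx] at this
  exact hp2 ((Nat.prime_dvd_prime_iff_eq hp Nat.prime_two).1 this)

variable (h3p : ThreePrimeSimple.{u})
include h3p

/-- A minimal normal subgroup over a normal subgroup. -/
theorem pi_or_copi (hodd : ∀ p ∈ π, p.Prime ∧ p ≠ 2) (h3 : ¬ 3 ∣ Nat.card G) (hhom : Homog π G) {N M : Subgroup G}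
    [N.Normal] [M.Normal] (hNM : N < M) (hmin : ∀ K : Subgroup G, K.Normal → N < K → K ≤ M → K = M) :
    PiNat π (N.relIndex M) ∨ ∀ q : ℕ, q.Prime → q ∣ N.relIndex M → q ∉ π := by
  classical
  by_cases hπd : ∃ p ∈ π, p ∣ N.relIndex M
  swap
  · exact Or.inr fun q _ hd hq => hπd ⟨q, hq, hd⟩
  left
  obtain ⟨p, hpπ, hpd⟩ := hπd
  obtain ⟨hp, -⟩ := hodd p hpπ
  haveI : Fact p.Prime := ⟨hp⟩
  set Q : Subgroup (G ⧸ N) := M.map (QuotientGroup.mk' N) with hQ
  have hQc : Nat.card Q = N.relIndex M := by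
    rw [hQ, ← relIndex_bot_left, ← map_bot (QuotientGroup.mk' N), relIndex_map_map, bot_sup_eq,
      QuotientGroup.ker_mk', sup_of_le_left hNM.le]
  haveI : Q.Normal := Subgroup.Normal.map inferInstance _ (QuotientGroup.mk'_surjective N)
  have hQmin : ∀ K : Subgroup (G ⧸ N), K.Normal → K ≤ Q → K = ⊥ ∨ K = Q := by
    intro K hK hle
    have hcm : (Q.comap (QuotientGroup.mk' N)) = M := by
      rw [hQ, comap_map_eq, QuotientGroup.ker_mk', sup_of_le_left hNM.le]
    rcases eq_or_lt_of_le (show N ≤ K.comap (QuotientGroup.mk' N) from fun a ha => by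
      rw [mem_comap, show QuotientGroup.mk' N a = 1 from (QuotientGroup.eq_one_iff a).2 ha]; exact one_mem K) with e | e
    · left
      rw [← map_comap_eq_self_of_surjective (QuotientGroup.mk'_surjective N) K, ← e, Subgroup.map_eq_bot_iff,
        QuotientGroup.ker_mk']
    · right
      have := hmin _ (Subgroup.Normal.comap hK _) e (hcm ▸ comap_mono hle)
      rw [← map_comap_eq_self_of_surjective (QuotientGroup.mk'_surjective N) K, this]
  have hchar : ∀ K : Subgroup ↥Q, K.Characteristic → K = ⊥ ∨ K = ⊤ := by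
    intro K hK
    rcases hQmin (K.map Q.subtype) inferInstance (map_subtype_le K) with e | e
    · exact Or.inl ((map_eq_bot_iff_of_injective _ Q.subtype_injective).1 e)
    · refine Or.inr (map_injective Q.subtype_injective ?_)
      rw [e, ← MonoidHom.range_eq_map, Q.range_subtype]
  obtain ⟨y, hy⟩ := exists_prime_orderOf_dvd_card' (G := ↥Q) p (hQc.symm ▸ hpd)
  have hy1 : y ≠ 1 := fun e => by rw [e, orderOf_one] at hy; exact hp.ne_one hy.symm
  haveI : Nontrivial ↥Q := ⟨⟨y, 1, hy1⟩⟩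
  have hcommQ : commutator ↥Q ≠ ⊤ := by
    intro hperf
    -- intersection of the maximal normal subgroups
    obtain ⟨I, hI⟩ : ∃ I : Subgroup ↥Q, I = sInf {K : Subgroup ↥Q | ∃ _ : K.Normal, IsSimpleGroup (↥Q ⧸ K)} :=
      ⟨_, rfl⟩
    haveI hIc : I.Characteristic := by
      refine characteristic_iff_le_comap.2 fun φ => ?_
      rw [hI]
      intro a ha
      rw [mem_comap, mem_sInf]
      rintro K ⟨hK, hKs⟩
      haveI := hK
      haveI : (K.comap φ.toMonoidHom).Normal := hK.comap _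
      have hmem : K.comap φ.toMonoidHom ∈ {K : Subgroup ↥Q | ∃ _ : K.Normal, IsSimpleGroup (↥Q ⧸ K)} := by
        refine ⟨inferInstance, ?_⟩
        let e : ↥Q ⧸ K.comap φ.toMonoidHom ≃* ↥Q ⧸ K :=
          QuotientGroup.congr _ _ φ (map_comap_eq_self_of_surjective φ.surjective K)
        haveI := hKs
        exact e.isSimpleGroup
      exact (mem_sInf.1 ha) _ hmem
    have hyI : y ∈ I := by
      rw [hI, mem_sInf]
      rintro K ⟨hK, hKs⟩
      haveI := hK
      haveI := hKs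
      have hna : ¬ IsMulCommutative (↥Q ⧸ K) := fun hc => by
        letI : CommGroup (↥Q ⧸ K) :=
          { (inferInstance : Group (↥Q ⧸ K)) with mul_comm := fun a b => hc.is_comm.comm a b }
        have hker := Abelianization.commutator_subset_ker (QuotientGroup.mk' K)
        rw [hperf, QuotientGroup.ker_mk'] at hker
        have htop : K = ⊤ := top_le_iff.1 hker
        obtain ⟨a, b, hab⟩ := exists_pair_ne (↥Q ⧸ K)
        obtain ⟨a, rfl⟩ := QuotientGroup.mk'_surjective K a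
        obtain ⟨b, rfl⟩ := QuotientGroup.mk'_surjective K b
        exact hab ((QuotientGroup.eq).2 (htop ▸ mem_top _))
      have hdG : Nat.card (↥Q ⧸ K) ∣ Nat.card G :=
        ((Subgroup.card_quotient_dvd_card K).trans (Subgroup.card_subgroup_dvd_card Q)).trans
          (Subgroup.card_quotient_dvd_card N)
      have hsz := h3p (↥Q ⧸ K) hKs hna fun h => h3 (h.trans hdG)
      have hnd := not_dvd_of_inverting hodd hhom M
        ((QuotientGroup.mk' K).comp (((QuotientGroup.mk' N).comp M.subtype).codRestrict Q fun a =>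
          mem_map_of_mem _ a.2)) ((QuotientGroup.mk'_surjective K).comp fun q => by
            obtain ⟨q, hq⟩ := q
            obtain ⟨a, ha, rfl⟩ := hq
            exact ⟨⟨a, ha⟩, rfl⟩) hpπ fun x hx => exists_inverting hsz hp (hodd p hpπ).2 hx
      refine (QuotientGroup.eq_one_iff y).1 (orderOf_eq_one_iff.1 ?_)
      refine ((Nat.dvd_prime hp).1 (hy ▸ orderOf_map_dvd (QuotientGroup.mk' K) y)).resolve_right fun e => hnd ?_
      exact e ▸ _root_.orderOf_dvd_natCard _
    rcases hchar I hIc with e | e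
    · rw [e, mem_bot] at hyI; exact hy1 hyI
    · obtain ⟨K, hK⟩ : ∃ K, Maximal (fun K : Subgroup ↥Q => K.Normal ∧ K ≠ ⊤) K :=
        Set.Finite.exists_maximal (s := {K : Subgroup ↥Q | K.Normal ∧ K ≠ ⊤}) (Set.toFinite _)
          ⟨⊥, inferInstance, bot_ne_top⟩
      haveI := hK.prop.1
      haveI : Nontrivial (↥Q ⧸ K) := QuotientGroup.nontrivial_iff.2 hK.prop.2
      have hs : IsSimpleGroup (↥Q ⧸ K) := by
        refine ⟨fun J hJ => ?_⟩
        by_cases hJt : J = ⊤
        · exact Or.inr hJt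
        · left
          have hle : K ≤ J.comap (QuotientGroup.mk' K) := fun a ha => by
            rw [mem_comap, show QuotientGroup.mk' K a = 1 from (QuotientGroup.eq_one_iff a).2 ha]; exact one_mem J
          have := hK.eq_of_le ⟨hJ.comap _, fun h => hJt (by
            rw [← map_comap_eq_self_of_surjective (QuotientGroup.mk'_surjective K) J, h, ← MonoidHom.range_eq_map,
              MonoidHom.range_eq_top.2 (QuotientGroup.mk'_surjective K)])⟩ hle
          rw [← map_comap_eq_self_of_surjective (QuotientGroup.mk'_surjective K) J, ← this, QuotientGroup.map_mk'_self]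
      have hmem : I ≤ K := hI ▸ sInf_le ⟨hK.prop.1, hs⟩
      exact hK.prop.2 (top_le_iff.1 (e ▸ hmem))
  -- abelian, so a `p`-group
  have hab : commutator ↥Q = ⊥ := (hchar _ inferInstance).resolve_right hcommQ
  have hc : ∀ a b : ↥Q, a * b = b * a := fun a b => by
    have := commutator_mem_commutator (mem_top a) (mem_top b)
    rw [← _root_.commutator_def, hab, mem_bot, commutatorElement_eq_one_iff_mul_comm] at this
    exact this
  obtain ⟨P, hP⟩ : ∃ P : Subgroup ↥Q, ∀ a, a ∈ P ↔ a ^ p = 1 :=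
    ⟨{ carrier := {a | a ^ p = 1}
       mul_mem' := fun {a b} ha hb => by
        show (a * b) ^ p = 1
        rw [(show Commute a b from hc a b).mul_pow, show a ^ p = 1 from ha, show b ^ p = 1 from hb, one_mul]
       one_mem' := one_pow p
       inv_mem' := fun {a} ha => by show a⁻¹ ^ p = 1; rw [inv_pow, show a ^ p = 1 from ha, inv_one] }, fun _ => Iff.rfl⟩
  have hPc : P.Characteristic := characteristic_iff_le_comap.2 fun φ a ha => by
    rw [mem_comap, hP]
    show φ a ^ p = 1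
    rw [← map_pow, (hP a).1 ha, map_one]
  have hPt : P = ⊤ := (hchar P hPc).resolve_left fun e => hy1 (by
    have : y ∈ P := (hP y).2 (hy ▸ pow_orderOf_eq_one y)
    rwa [e, mem_bot] at this)
  have hpg : IsPGroup p ↥Q := fun a => ⟨1, by rw [pow_one]; exact (hP a).1 (hPt ▸ mem_top a)⟩
  intro q hq hqd
  rw [← hQc] at hqd
  obtain ⟨k, hk⟩ := hpg.exists_card_eq
  rw [hk] at hqd
  rwa [(Nat.prime_dvd_prime_iff_eq hq hp).1 (hq.dvd_of_dvd_pow hqd)]

theorem exists_chain (hodd : ∀ p ∈ π, p.Prime ∧ p ≠ 2) (h3 : ¬ 3 ∣ Nat.card G) (hhom : Homog π G) :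
    ∀ (k : ℕ) (N : Subgroup G), N.Normal → N.index = k → ∃ (n : ℕ) (H : Fin (n + 1) → Subgroup G),
      H 0 = N ∧ H (Fin.last n) = ⊤ ∧ Monotone H ∧ (∀ i, (H i).Normal) ∧
      ∀ i : Fin n, PiNat π ((H i.castSucc).relIndex (H i.succ)) ∨
        ∀ q : ℕ, q.Prime → q ∣ (H i.castSucc).relIndex (H i.succ) → q ∉ π := by
  intro k
  induction k using Nat.strong_induction_on with
  | _ k ih =>
    intro N hN hk
    by_cases hNt : N = ⊤
    · subst hNt
      exact ⟨0, fun _ => ⊤, rfl, rfl, monotone_const, fun _ => hN, fun i => i.elim0⟩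
    obtain ⟨M, hM⟩ : ∃ M, Minimal (fun M : Subgroup G => M.Normal ∧ N < M) M :=
      Set.Finite.exists_minimal (s := {M : Subgroup G | M.Normal ∧ N < M}) (Set.toFinite _)
        ⟨⊤, inferInstance, lt_top_iff_ne_top.2 hNt⟩
    haveI := hM.prop.1
    obtain ⟨n, H, h0, hl, hmono, hn, hi⟩ := ih M.index (hk ▸ Subgroup.index_strictAnti hM.prop.2) M hM.prop.1 rfl
    refine ⟨n + 1, Fin.cons N H, rfl, by rw [← Fin.succ_last, Fin.cons_succ, hl], ?_, ?_, ?_⟩
    · refine Fin.monotone_iff_le_succ.2 fun i => ?_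
      cases i using Fin.cases with
      | zero => rw [Fin.castSucc_zero, Fin.cons_zero, Fin.cons_succ, h0]; exact hM.prop.2.le
      | succ j => rw [← Fin.succ_castSucc, Fin.cons_succ, Fin.cons_succ]; exact hmono (Fin.castSucc_le_succ j)
    · intro i
      cases i using Fin.cases with
      | zero => rw [Fin.cons_zero]; exact hN
      | succ j => rw [Fin.cons_succ]; exact hn j
    · intro i
      cases i using Fin.cases with
      | zero =>
        rw [Fin.castSucc_zero, Fin.cons_zero, Fin.cons_succ, h0]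
        haveI := hN
        exact pi_or_copi h3p hodd h3 hhom hM.prop.2 fun K hK hlt hle => le_antisymm hle (hM.le_of_le ⟨hK, hlt⟩ hle)
      | succ j => rw [← Fin.succ_castSucc, Fin.cons_succ, Fin.cons_succ]; exact hi j

/-- The elements of order prime to the set form a subgroup. -/
theorem prime_set_closed (hodd' : CfsgLib.OddGated.OddSolvable.{u}) (hodd : ∀ p ∈ π, p.Prime ∧ p ≠ 2)
    (h3 : ¬ 3 ∣ Nat.card G) (hhom : Homog π G) :
    ∃ K : Subgroup G, ∀ x : G, x ∈ K ↔ ∀ p : ℕ, p.Prime → p ∣ orderOf x → p ∉ π := by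
  obtain ⟨n, H, h0, hl, hm, hn, hi⟩ := exists_chain h3p hodd h3 hhom _ ⊥ inferInstance rfl
  obtain ⟨hC, hdom⟩ := CfsgLib.OddGated.hall_separable hodd' _ G rfl ⟨n, H, h0, hl, hm, hn, hi⟩
  refine CfsgLib.PiHomogeneous.pi_prime_closed (fun p hp => (hodd p hp).1) (fun A B hA hB => ?_) hhom
  obtain ⟨HA, hHA, hAle⟩ := hdom A hA.prop
  obtain ⟨HB, hHB, hBle⟩ := hdom B hB.prop
  rw [hA.eq_of_le hHA.1 hAle, hB.eq_of_le hHB.1 hBle]
  exact hC.2 HA HB hHA hHB

end CfsgLib.ThreePrimeUse
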