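import Cfsg.Agent.Lib.Lie.Suzuki.SubgroupClass
import Cfsg.Agent.Lib.Lie.Suzuki.Degrees
import Cfsg.Agent.Lib.CIT.SzPrimeGraph

/-!
Owner: helper19. Facts about the maximal subgroups of the Suzuki groups.
-/

set_option autoImplicit false
set_option linter.unusedSectionVars false

namespace CfsgLib.ThreePrimeUse

open CfsgLib.Lie.Suzuki

variable {F : Type*} [Field F] [CharP F 2] [Fintype F] {m : ℕ} (hF : Fintype.card F = 2 ^ (2 * m + 1))

include hF in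
/-- The normalisers of the cyclic subgroups of the three orders. -/
theorem card_normalizer_dvd (hm : 1 ≤ m) {U : Subgroup (Cfsg.Sz F m)} (hU : IsCyclic U)
    (hc : Nat.card U ∈ ({2 ^ (2 * m + 1) - 1, 2 ^ (2 * m + 1) + 2 ^ (m + 1) + 1,
      2 ^ (2 * m + 1) - 2 ^ (m + 1) + 1} : Set ℕ)) :
    Nat.card (Subgroup.normalizer (U : Set (Cfsg.Sz F m))) ∣ 4 * Nat.card U := by
  obtain ⟨g, hg⟩ := hU.exists_generator
  have hgU : ∀ S : Subgroup (Cfsg.Sz F m), (g : Cfsg.Sz F m) ∈ S → U ≤ S := fun S hS u hu => by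
    obtain ⟨j, hj⟩ := hg ⟨u, hu⟩
    have := congrArg Subtype.val hj
    simp only [Subgroup.coe_zpow] at this
    rw [← this]
    exact zpow_mem hS j
  obtain ⟨c12, c13, c23⟩ := coprime_three hF hm
  have h8 := two_lt_card hF hm
  rw [hF] at h8
  have hle : 2 ^ (m + 1) ≤ 2 ^ (2 * m + 1) := Nat.pow_le_pow_right (by norm_num) (by omega)
  have hpos : 1 < Nat.card U ∧ Odd (Nat.card U) := by
    have he : ∀ k, 1 ≤ k → Even ((2 : ℕ) ^ k) := fun k hk => Nat.even_pow.2 ⟨even_two, by omega⟩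
    have e1 := he (2 * m + 1) (by omega)
    have e2 := he (m + 1) (by omega)
    have hlt : (2 : ℕ) ^ (m + 1) < 2 ^ (2 * m + 1) := Nat.pow_lt_pow_right (by norm_num) (by omega)
    have h4 : (4 : ℕ) ≤ 2 ^ (m + 1) := Nat.pow_le_pow_right (n := 2) (by norm_num) (show 2 ≤ m + 1 by omega)
    rw [Nat.even_iff] at e1 e2
    simp only [Set.mem_insert_iff, Set.mem_singleton_iff] at hc
    rw [Nat.odd_iff]
    rcases hc with h | h | h <;> rw [h] <;> constructor <;> omega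
  have hg1 : (g : Cfsg.Sz F m) ≠ 1 := fun e => by
    have : U ≤ ⊥ := hgU ⊥ (Subgroup.mem_bot.2 e)
    rw [le_bot_iff] at this
    rw [this, Subgroup.card_bot] at hpos
    omega
  have hord : orderOf (g : Cfsg.Sz F m) = Nat.card U := by
    rw [Subgroup.orderOf_coe, orderOf_eq_card_of_forall_mem_zpowers hg]
  rcases cases_of_ne_one hF hm (g : Cfsg.Sz F m) with hf | ⟨h, hu⟩ | ⟨h, ht⟩
  · have hUC : U ≤ Subgroup.centralizer ({(g : Cfsg.Sz F m)} : Set (Cfsg.Sz F m)) :=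
      hgU _ (Subgroup.mem_centralizer_singleton_iff.2 rfl)
    have hd := Subgroup.card_dvd_of_le hUC
    have heq : Nat.card U = Nat.card (Subgroup.centralizer ({(g : Cfsg.Sz F m)} : Set (Cfsg.Sz F m))) := by
      simp only [Set.mem_insert_iff, Set.mem_singleton_iff] at hc
      exact eq_of_dvd_mem hc (Or.inr (free_card_cases hF hm hf)) hd hpos.1 c12 c13 c23
    rw [Subgroup.eq_of_le_of_card_ge hUC heq.ge, free_normalizer_card hF hm hf]
  · exfalso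
    have hd : orderOf (g : Cfsg.Sz F m) ∣ Nat.card (cj h (uSub hF)) := Subgroup.orderOf_dvd_natCard _ hu
    rw [hord, card_cj, card_uSub, hF, ← pow_mul] at hd
    obtain ⟨j, -, hj⟩ := (Nat.dvd_prime_pow Nat.prime_two).1 hd
    have hj0 : j ≠ 0 := fun e => by rw [e, pow_zero] at hj; omega
    exact Nat.not_even_iff_odd.2 hpos.2 (hj ▸ Nat.even_pow.2 ⟨even_two, hj0⟩)
  · have hUT : U ≤ cj h (tSub hF) := hgU _ ht
    have hd := Subgroup.card_dvd_of_le hUT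
    have heq : Nat.card U = Nat.card (cj h (tSub hF)) := by
      simp only [Set.mem_insert_iff, Set.mem_singleton_iff] at hc
      exact eq_of_dvd_mem hc (Or.inl (by rw [card_cj, card_tSub, hF])) hd hpos.1 c12 c13 c23
    rw [Subgroup.eq_of_le_of_card_ge hUT heq.ge, card_cj, cj, ← Subgroup.map_equiv_normalizer_eq]
    have hr := relIndex_tSub (F := F) hF hm
    have hN : Nat.card (Subgroup.normalizer (tSub hF : Set (Cfsg.Sz F m))) = Nat.card (tSub hF) * 2 := by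
      rw [← hr, ← Subgroup.relIndex_bot_left (H := tSub hF), ← Subgroup.relIndex_bot_left
        (H := Subgroup.normalizer (tSub hF : Set (Cfsg.Sz F m))),
        Subgroup.relIndex_mul_relIndex _ _ _ bot_le Subgroup.le_normalizer]
    show Nat.card ((Subgroup.normalizer (tSub hF : Set (Cfsg.Sz F m))).map (MulAut.conj h).toMonoidHom) ∣ _
    rw [Subgroup.card_map_of_injective (MulAut.conj h).injective, hN]
    exact ⟨2, by ring⟩

include hF in
/-- The orders of the proper subgroups. -/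
theorem order_cases (hm : 1 ≤ m) {M : Subgroup (Cfsg.Sz F m)} (hM : M ≠ ⊤) :
    Nat.card M ∣ (2 ^ (2 * m + 1)) ^ 2 * (2 ^ (2 * m + 1) - 1) ∨
    (∃ u ∈ ({2 ^ (2 * m + 1) - 1, 2 ^ (2 * m + 1) + 2 ^ (m + 1) + 1,
      2 ^ (2 * m + 1) - 2 ^ (m + 1) + 1} : Set ℕ), Nat.card M ∣ 4 * u) ∨
    ∃ k, 1 ≤ k ∧ k < m ∧
      Nat.card M = (2 ^ (2 * k + 1)) ^ 2 * ((2 ^ (2 * k + 1)) ^ 2 + 1) * (2 ^ (2 * k + 1) - 1) := by
  rcases maximal_cases hF hm M hM with ⟨P, hP⟩ | ⟨U, hU, hc, hle⟩ | ⟨K, _, _, k, hk, hkm, hK, -, ⟨e⟩⟩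
  · left
    obtain ⟨g, hg⟩ := exists_conj_sylow hF hm P
    refine (Subgroup.card_dvd_of_le hP).trans (dvd_of_eq ?_)
    rw [hg, ← Subgroup.map_equiv_normalizer_eq, normalizer_unip hF hm]
    show Nat.card ((borel F m).map (MulAut.conj g).toMonoidHom) = _
    rw [Subgroup.card_map_of_injective (MulAut.conj g).injective, ← hF]
    exact card_stab_inf hF hm
  · exact Or.inr (Or.inl ⟨_, hc, (Subgroup.card_dvd_of_le hle).trans (card_normalizer_dvd hF hm hU hc)⟩)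
  · refine Or.inr (Or.inr ⟨k, hk, hkm, ?_⟩)
    rw [Nat.card_congr e.toEquiv, Cfsg.Agent.S0324.result hk hK]

/-- The primes that occur in the arguments. -/
structure Primes (m r p : ℕ) : Prop where
  hr : r.Prime
  hp : p.Prime
  r2 : r ≠ 2
  p2 : p ≠ 2
  rq : r ∣ (2 ^ (2 * m + 1)) ^ 2 + 1
  pq : p ∣ 2 ^ (2 * m + 1) - 1
  rppd : ∀ j : ℕ, 0 < j → j < 4 * (2 * m + 1) → ¬ r ∣ 2 ^ j - 1
  r4 : r ∣ 2 ^ (4 * (2 * m + 1)) - 1
  pppd : ∀ j : ℕ, 0 < j → j < 2 * m + 1 → ¬ p ∣ 2 ^ j - 1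

theorem exists_primes (hm : 1 ≤ m) : ∃ r p, Primes m r p := by
  obtain ⟨r, hr, hr2, hr4, hrq, hrppd⟩ := CIT.SzPrimeGraph.exists_ppd m
  obtain ⟨p, hp, hpd, hpppd⟩ := CfsgLib.Zsigmondy.exists_primitive_prime_divisor (a := 2)
    (n := 2 * m + 1) one_lt_two (by omega) (by omega) (by omega)
  refine ⟨r, p, hr, hp, hr2, ?_, hrq, hpd, hrppd, hr4, hpppd⟩
  rintro rfl
  have : 2 ∣ 2 ^ (2 * m + 1) := dvd_pow_self 2 (by omega)
  have : 1 ≤ 2 ^ (2 * m + 1) := Nat.one_le_two_pow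
  omega

theorem Primes.p_not_dvd_add {r p : ℕ} (h : Primes m r p) : ¬ p ∣ (2 ^ (2 * m + 1)) ^ 2 + 1 := by
  intro hd
  have h2 : p ∣ (2 ^ (2 * m + 1)) ^ 2 + 1 - ((2 ^ (2 * m + 1)) ^ 2 - 1) := by
    refine Nat.dvd_sub hd ?_
    rw [← one_pow 2, Nat.sq_sub_sq, one_pow]
    exact h.pq.mul_left _
  have : 1 ≤ (2 ^ (2 * m + 1)) ^ 2 := Nat.one_le_pow _ _ (Nat.two_pow_pos _)
  rw [show (2 ^ (2 * m + 1)) ^ 2 + 1 - ((2 ^ (2 * m + 1)) ^ 2 - 1) = 2 by omega] at h2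
  exact h.p2 ((Nat.prime_dvd_prime_iff_eq h.hp Nat.prime_two).1 h2)

theorem Primes.r_not_dvd_sub {r p : ℕ} (h : Primes m r p) : ¬ r ∣ 2 ^ (2 * m + 1) - 1 :=
  h.rppd _ (by omega) (by omega)

theorem Primes.r_not_dvd_small {r p k : ℕ} (h : Primes m r p) (hk : k < m) :
    ¬ r ∣ (2 ^ (2 * k + 1)) ^ 2 * ((2 ^ (2 * k + 1)) ^ 2 + 1) * (2 ^ (2 * k + 1) - 1) := fun hd => by
  have h4 := CIT.SzPrimeGraph.dvd_of_ppd (n := 2 * m + 1) (by omega) (by omega) h.hr h.r2 h.rppd h.r4 hd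
  have := Nat.le_of_dvd (by omega) h4
  omega

theorem Primes.two_pow {r p : ℕ} (h : Primes m r p) (j : ℕ) : ¬ r ∣ 2 ^ j ∧ ¬ p ∣ 2 ^ j :=
  ⟨fun hd => h.r2 ((Nat.prime_dvd_prime_iff_eq h.hr Nat.prime_two).1 (h.hr.dvd_of_dvd_pow hd)),
    fun hd => h.p2 ((Nat.prime_dvd_prime_iff_eq h.hp Nat.prime_two).1 (h.hp.dvd_of_dvd_pow hd))⟩

include hF in
/-- No proper subgroup has prime power index. -/
theorem index_not_prime_pow (hm : 1 ≤ m) {M : Subgroup (Cfsg.Sz F m)} (hM : M ≠ ⊤) (l a : ℕ) (hl : l.Prime) :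
    M.index ≠ l ^ a := by
  intro he
  obtain ⟨r, p, h⟩ := exists_primes (m := m) hm
  obtain ⟨-, -, hprod⟩ := CIT.SzPrimeGraph.q_facts m hm
  have hT := Cfsg.Agent.S0324.result hm hF
  have hmul := M.card_mul_index
  rw [he, hT] at hmul
  have key : ∀ s : ℕ, s.Prime → s ∣ (2 ^ (2 * m + 1)) ^ 2 * ((2 ^ (2 * m + 1)) ^ 2 + 1) * (2 ^ (2 * m + 1) - 1) →
      ¬ s ∣ Nat.card M → s = l := fun s hs hd hn => by
    rw [← hmul] at hd
    exact (Nat.prime_dvd_prime_iff_eq hs hl).1 (hs.dvd_of_dvd_pow ((hs.dvd_mul.1 hd).resolve_left hn))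
  rcases order_cases hF hm hM with hA | ⟨u, hu, hB⟩ | ⟨k, hk, hkm, hC⟩
  · obtain ⟨s, hs, hs1⟩ := Nat.exists_prime_and_dvd (show 2 ^ (2 * m + 1) + 2 ^ (m + 1) + 1 ≠ 1 by
      have : 0 < 2 ^ (m + 1) := Nat.two_pow_pos _
      omega)
    obtain ⟨t, ht, ht1⟩ := Nat.exists_prime_and_dvd (show 2 ^ (2 * m + 1) - 2 ^ (m + 1) + 1 ≠ 1 by
      have : (2 : ℕ) ^ (m + 1) < 2 ^ (2 * m + 1) := Nat.pow_lt_pow_right (by norm_num) (by omega)
      omega)
    obtain ⟨c12, c13, c23⟩ := coprime_three hF hm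
    have hn : ∀ s', s'.Prime → s' ∣ (2 ^ (2 * m + 1)) ^ 2 + 1 → ¬ s' ∣ Nat.card M := fun s' hs' hd hdM => by
      rcases hs'.dvd_mul.1 (hdM.trans hA) with h2 | h1
      · exact hs'.ne_one (Nat.dvd_one.1 ((Nat.dvd_add_right h2).1 hd))
      · have hq : s' ∣ (2 ^ (2 * m + 1)) ^ 2 - 1 := by
          rw [← one_pow 2, Nat.sq_sub_sq, one_pow]; exact h1.mul_left _
        have : 1 ≤ (2 ^ (2 * m + 1)) ^ 2 := Nat.one_le_pow _ _ (Nat.two_pow_pos _)
        have h2 := Nat.dvd_sub hd hq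
        rw [show (2 ^ (2 * m + 1)) ^ 2 + 1 - ((2 ^ (2 * m + 1)) ^ 2 - 1) = 2 by omega] at h2
        rw [(Nat.prime_dvd_prime_iff_eq hs' Nat.prime_two).1 h2] at h1
        have : 2 ∣ 2 ^ (2 * m + 1) := dvd_pow_self 2 (by omega)
        have := Nat.one_le_two_pow (n := 2 * m + 1)
        omega
    have hs' : s ∣ (2 ^ (2 * m + 1)) ^ 2 + 1 := hprod ▸ hs1.mul_right _
    have ht' : t ∣ (2 ^ (2 * m + 1)) ^ 2 + 1 := hprod ▸ ht1.mul_left _
    have e1 := key s hs (((hs'.mul_left _).mul_right _)) (hn s hs hs')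
    have e2 := key t ht (((ht'.mul_left _).mul_right _)) (hn t ht ht')
    exact hs.ne_one (Nat.eq_one_of_dvd_coprimes c23 hs1 ((e1.trans e2.symm) ▸ ht1))
  · have h2 : 2 ∣ 2 ^ (2 * m + 1) := dvd_pow_self 2 (by omega)
    have hl2 : l = 2 := by
      by_contra hl2
      have h8 : 2 ^ 3 ∣ Nat.card M * l ^ a := by
        rw [hmul]
        refine ((?_ : (2 : ℕ) ^ 3 ∣ (2 ^ (2 * m + 1)) ^ 2).mul_right _).mul_right _
        rw [← pow_mul]
        exact pow_dvd_pow 2 (by omega)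
      have hodd : Nat.Coprime (2 ^ 3) (l ^ a) :=
        Nat.Coprime.pow _ _ ((Nat.coprime_primes Nat.prime_two hl).2 (Ne.symm hl2))
      have h8u := (hodd.dvd_of_dvd_mul_right h8).trans hB
      have h2u : 2 ∣ u := by
        have : (4 : ℕ) * 2 ∣ 4 * u := by simpa using h8u
        exact Nat.dvd_of_mul_dvd_mul_left (by norm_num) this
      simp only [Set.mem_insert_iff, Set.mem_singleton_iff] at hu
      have : 2 ∣ 2 ^ (m + 1) := dvd_pow_self 2 (by omega)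
      have : (2 : ℕ) ^ (m + 1) ≤ 2 ^ (2 * m + 1) := Nat.pow_le_pow_right (by norm_num) (by omega)
      have := Nat.one_le_two_pow (n := 2 * m + 1)
      rcases hu with rfl | rfl | rfl <;> omega
    have hor : ¬ r ∣ u ∨ ¬ p ∣ u := by
      by_contra hcon
      push Not at hcon
      simp only [Set.mem_insert_iff, Set.mem_singleton_iff] at hu
      rcases hu with rfl | rfl | rfl
      · exact h.r_not_dvd_sub hcon.1
      · exact h.p_not_dvd_add (hprod ▸ hcon.2.mul_right _)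
      · exact h.p_not_dvd_add (hprod ▸ hcon.2.mul_left _)
    rcases hor with hn | hn
    · exact h.r2 ((key r h.hr ((h.rq.mul_left _).mul_right _) fun hd => hn
        ((h.hr.dvd_mul.1 (hd.trans hB)).resolve_left ((h.two_pow 2).1))).trans hl2)
    · exact h.p2 ((key p h.hp (h.pq.mul_left _) fun hd => hn
        ((h.hp.dvd_mul.1 (hd.trans hB)).resolve_left ((h.two_pow 2).2))).trans hl2)
  · have e1 := key r h.hr ((h.rq.mul_left _).mul_right _) (hC ▸ h.r_not_dvd_small hkm)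
    have h2 : l = 2 := by
      by_contra hl2
      have hd : (2 ^ (2 * m + 1)) ^ 2 ∣ Nat.card M * l ^ a := by
        rw [hmul]; exact (dvd_mul_right _ _).mul_right _
      have hc : Nat.Coprime ((2 ^ (2 * m + 1)) ^ 2) (l ^ a) :=
        Nat.Coprime.pow _ _ (Nat.Coprime.pow_left _ ((Nat.coprime_primes Nat.prime_two hl).2 (Ne.symm hl2)))
      have hd' := hc.dvd_of_dvd_mul_right hd
      rw [hC, mul_assoc] at hd'
      have hco : Nat.Coprime ((2 ^ (2 * m + 1)) ^ 2) (((2 ^ (2 * k + 1)) ^ 2 + 1) * (2 ^ (2 * k + 1) - 1)) := by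
        have ho : Odd (((2 ^ (2 * k + 1)) ^ 2 + 1) * (2 ^ (2 * k + 1) - 1)) :=
          Nat.odd_mul.2 ⟨(Nat.even_pow.2 ⟨Nat.even_pow.2 ⟨even_two, by omega⟩, two_ne_zero⟩).add_one,
            Nat.Even.sub_odd Nat.one_le_two_pow (Nat.even_pow.2 ⟨even_two, by omega⟩) odd_one⟩
        exact (Nat.Coprime.pow_left _ (Nat.Coprime.pow_left _ (Nat.prime_two.coprime_iff_not_dvd.2
          fun h => Nat.not_even_iff_odd.2 ho (even_iff_two_dvd.2 h))))
      have hd'' := Nat.le_of_dvd (by positivity) (hco.dvd_of_dvd_mul_right hd')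
      have : ((2 : ℕ) ^ (2 * k + 1)) ^ 2 < (2 ^ (2 * m + 1)) ^ 2 :=
        Nat.pow_lt_pow_left (Nat.pow_lt_pow_right (by norm_num) (by omega)) two_ne_zero
      omega
    exact h.r2 (e1.trans h2)

include hF in
/-- Every prime power divisor of the order divides the order of a maximal subgroup. -/
theorem exists_maximal (hm : 1 ≤ m) {l a : ℕ} (hl : l.Prime) (hd : l ^ a ∣ Nat.card (Cfsg.Sz F m)) :
    ∃ M : Subgroup (Cfsg.Sz F m), IsCoatom M ∧ l ^ a ∣ Nat.card M := by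
  haveI : Finite (Cfsg.Sz F m) := Subtype.finite
  haveI := Fact.mk hl
  obtain ⟨P, hP⟩ := Sylow.exists_subgroup_card_pow_prime l hd
  have hPt : P ≠ ⊤ := fun e => by
    obtain ⟨r, p, h⟩ := exists_primes (m := m) hm
    rw [e, Subgroup.card_top, Cfsg.Agent.S0324.result hm hF] at hP
    have e1 : r = l := (Nat.prime_dvd_prime_iff_eq h.hr hl).1 (h.hr.dvd_of_dvd_pow
      (hP ▸ ((h.rq.mul_left _).mul_right _)))
    have e2 : p = l := (Nat.prime_dvd_prime_iff_eq h.hp hl).1 (h.hp.dvd_of_dvd_pow (hP ▸ (h.pq.mul_left _)))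
    exact h.p_not_dvd_add (e2.trans e1.symm ▸ h.rq)
  obtain ⟨M, hM, hle⟩ := (eq_top_or_exists_le_coatom P).resolve_left hPt
  exact ⟨M, hM, hP ▸ Subgroup.card_dvd_of_le hle⟩

end CfsgLib.ThreePrimeUse
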