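import Cfsg.Agent.Lib.ThreePrimeUse.Basic
import Cfsg.Agent.Lib.Known.SuzukiAut
import Cfsg.Agent.Lib.Known.SzEight
import Cfsg.Agent.Lib.Lie.Suzuki.SubgroupClass
import Cfsg.Agent.Lib.Components.Component
import Cfsg.Prelude.Def_Solvable

/-!
Owner: helper19. A component of order prime to three and an element of order three with solvable centraliser,
given the classification of simple groups of order prime to three.
-/

set_option autoImplicit false
set_option linter.unusedSectionVars false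

namespace CfsgLib.ThreePrimeUse

universe u

open CfsgLib.Lie.Suzuki CfsgLib.Known.SuzukiAut
open scoped Pointwise

/-- The fixed points of an automorphism. -/
def fixedSub {T : Type*} [Group T] (φ : MulAut T) : Subgroup T := φ.toMonoidHom.eqLocus (MonoidHom.id T)

theorem mem_fixedSub {T : Type*} [Group T] {φ : MulAut T} {x : T} : x ∈ fixedSub φ ↔ φ x = x := Iff.rfl

variable {F : Type*} [Field F] [CharP F 2] [Fintype F] {m : ℕ} (hF : Fintype.card F = 2 ^ (2 * m + 1))

include hF in
/-- A field automorphism of order three fixes a smaller Suzuki group, unless the field has eight elements. -/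
theorem not_solvable_fixed_fa (hm : 2 ≤ m) {δ : F ≃+* F} (hδ : orderOf δ = 3) :
    ¬ Group.IsSolvable (fixedSub (fa δ : MulAut (Cfsg.Sz F m))) := by
  classical
  haveI : Fact (Nat.Prime 2) := ⟨Nat.prime_two⟩
  have h3 : 3 ∣ 2 * m + 1 := by
    rw [← (CfsgLib.Known.AutPSL.card_ringAut hF (by omega : 1 ≤ 2 * m + 1)).1, ← hδ]
    exact orderOf_dvd_natCard δ
  obtain ⟨j, hj⟩ := h3
  obtain ⟨k, rfl⟩ : ∃ k, j = 2 * k + 1 := ⟨j / 2, by omega⟩
  have hk : 1 ≤ k := by omega
  haveI : Finite (F ≃+* F) := Finite.of_injective (fun f => (f : F → F)) DFunLike.coe_injective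
  let A : Subgroup (F ≃+* F) := Subgroup.zpowers δ
  let E : Subfield F := FixedPoints.subfield A F
  haveI : Fintype E := Fintype.ofFinite E
  haveI : Fintype A := Fintype.ofFinite A
  have hfin : Module.finrank E F = 3 := by
    rw [FixedPoints.finrank_eq_card A F, ← Nat.card_eq_fintype_card, Nat.card_zpowers, hδ]
  have hE : Fintype.card E = 2 ^ (2 * k + 1) := by
    have h := Module.natCard_eq_pow_finrank (K := E) (V := F)
    rw [hfin, Nat.card_eq_fintype_card, Nat.card_eq_fintype_card, hF, hj, mul_comm, pow_mul] at h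
    exact (Nat.pow_left_injective (by norm_num) h).symm
  haveI : CharP E 2 := charTwo_of_card hE
  have hd : 2 * k + 1 ∣ 2 * m + 1 := ⟨3, by omega⟩
  have hfix : ∀ a : E, δ (a : F) = a := fun a => a.2 ⟨δ, Subgroup.mem_zpowers δ⟩
  intro hs
  have hle : subGroup hk hF hE hd E.subtype ≤ fixedSub (fa δ : MulAut (Cfsg.Sz F m)) := by
    refine subGroup_le hk hF hE hd E.subtype (fun a b => mem_fixedSub.2 ?_) (fun t => mem_fixedSub.2 ?_)
      (mem_fixedSub.2 ?_)
    · rw [fa_uS]
      show uS hF (δ (a : F)) (δ (b : F)) = uS hF (a : F) (b : F)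
      rw [hfix, hfix]
    · rw [fa_tS]
      exact congrArg (tS hF) (Units.ext (hfix (t : E)))
    · exact Subtype.ext (Subtype.ext (map_wM (δ : F →+* F)))
  haveI := hs
  haveI := Group.isSolvable_of_isSolvable_injective (Subgroup.inclusion_injective hle)
  exact not_isSolvable_group hE hk
    (Group.isSolvable_of_isSolvable_injective (f := (subEquiv hk hF hE hd E.subtype).toMonoidHom)
      (subEquiv hk hF hE hd E.subtype).injective)

include hF in
/-- An automorphism of order dividing three with solvable fixed points exists over eight elements alone. -/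
theorem eq_one_of_solvable_fixed (hm : 1 ≤ m) {φ : MulAut (Cfsg.Sz F m)} (h3 : φ ^ 3 = 1)
    (hsol : Group.IsSolvable (fixedSub φ)) : m = 1 := by
  classical
  by_contra hm1
  haveI : Fact (Nat.Prime 2) := ⟨Nat.prime_two⟩
  haveI : Finite (Cfsg.Sz F m) := Subtype.finite
  haveI : Finite (MulAut (Cfsg.Sz F m)) :=
    Finite.of_injective (fun f => (f : Cfsg.Sz F m → Cfsg.Sz F m)) DFunLike.coe_injective
  haveI : Finite (F ≃+* F) := Finite.of_injective (fun f => (f : F → F)) DFunLike.coe_injective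
  obtain ⟨ρ, hρ⟩ : ∃ ρ : MulAut (Cfsg.Sz F m) →* Cfsg.Out (Cfsg.Sz F m),
      ρ = QuotientGroup.mk' (Cfsg.Inn (Cfsg.Sz F m)) := ⟨_, rfl⟩
  have hker : ρ.ker = Cfsg.Inn (Cfsg.Sz F m) := by rw [hρ, QuotientGroup.ker_mk']
  have hconj : ∀ g : Cfsg.Sz F m, ρ (MulAut.conj g) = 1 := fun g => by
    rw [← MonoidHom.mem_ker, hker]
    exact ⟨g, rfl⟩
  have hsurj : Function.Surjective ρ := by rw [hρ]; exact QuotientGroup.mk'_surjective _
  have hbij : Function.Bijective (ρ.comp (faHom : (F ≃+* F) →* MulAut (Cfsg.Sz F m))) := by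
    refine (Nat.bijective_iff_surjective_and_card _).2 ⟨fun o => ?_, ?_⟩
    · obtain ⟨ψ, rfl⟩ := hsurj o
      obtain ⟨γ, g, rfl⟩ := exists_inner_field hF hm ψ
      exact ⟨γ, by rw [map_mul, hconj, one_mul]; rfl⟩
    · rw [card_out hF hm, (CfsgLib.Known.AutPSL.card_ringAut hF (by omega : 1 ≤ 2 * m + 1)).1]
  obtain ⟨γ, g, hφ⟩ := exists_inner_field hF hm φ
  have hργ : ρ φ = ρ.comp faHom γ := by rw [hφ, map_mul, hconj, one_mul]; rfl
  have hγ3 : γ ^ 3 = 1 := hbij.1 (by rw [map_pow, ← hργ, ← map_pow, h3, map_one, map_one])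
  have hT3 : ¬ 3 ∣ Nat.card (Cfsg.Sz F m) := not_three_dvd hF hm
  have hφ3 : φ ≠ 1 := fun e => by
    subst e
    refine not_isSolvable_group hF hm ?_
    haveI := hsol
    exact Group.isSolvable_of_surjective
      (f := (fixedSub (1 : MulAut (Cfsg.Sz F m))).subtype) fun x => ⟨⟨x, rfl⟩, rfl⟩
  have hφo : orderOf φ = 3 := orderOf_eq_prime h3 hφ3
  have hρ1 : ρ φ ≠ 1 := fun e => by
    rw [← MonoidHom.mem_ker, hker] at e
    obtain ⟨x, hx⟩ := e
    refine hT3 ?_
    rw [← hφo, ← hx]
    exact (orderOf_map_dvd MulAut.conj x).trans (orderOf_dvd_natCard x)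
  have hγo : orderOf γ = 3 := orderOf_eq_prime hγ3 fun e => hρ1 (by rw [hργ, e, map_one])
  have hρo : orderOf (ρ φ) = 3 := orderOf_eq_prime (by rw [← map_pow, h3, map_one]) hρ1
  let G0 : Subgroup (MulAut (Cfsg.Sz F m)) := (Subgroup.zpowers (ρ φ)).comap ρ
  have hcard : Nat.card G0 = Nat.card (Cfsg.Inn (Cfsg.Sz F m)) * 3 := by
    have hle : ρ.ker ≤ G0 := MonoidHom.ker_le_comap ρ _
    have h1 := Subgroup.relIndex_mul_relIndex _ _ _ (bot_le : ⊥ ≤ ρ.ker) hle
    rw [Subgroup.relIndex_bot_left, Subgroup.relIndex_bot_left, Subgroup.relIndex_ker, hker,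
      Subgroup.map_comap_eq_self_of_surjective hsurj, Nat.card_zpowers, hρo] at h1
    exact h1.symm
  have hinn : ¬ 3 ∣ Nat.card (Cfsg.Inn (Cfsg.Sz F m)) := fun h => hT3 (h.trans (by
    rw [← hker]
    have : ρ.ker = (MulAut.conj : Cfsg.Sz F m →* MulAut (Cfsg.Sz F m)).range := hker
    rw [this]
    exact Subgroup.card_range_dvd _))
  obtain ⟨a, ha⟩ : ∃ a : G0, (a : MulAut (Cfsg.Sz F m)) = φ := ⟨⟨φ, Subgroup.mem_zpowers (ρ φ)⟩, rfl⟩
  obtain ⟨b, hb⟩ : ∃ b : G0, (b : MulAut (Cfsg.Sz F m)) = fa γ :=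
    ⟨⟨fa γ, Subgroup.mem_comap.2 (by rw [hργ]; exact Subgroup.mem_zpowers _)⟩, rfl⟩
  have hao : orderOf a = 3 := by rw [← Subgroup.orderOf_coe, ha, hφo]
  have hbo : orderOf b = 3 := by
    refine orderOf_eq_prime (Subtype.ext ?_) fun e => ?_
    · rw [Subgroup.coe_pow, hb, show (fa γ : MulAut (Cfsg.Sz F m)) = faHom γ from rfl, ← map_pow, hγ3, map_one]
      rfl
    · have : (fa γ : MulAut (Cfsg.Sz F m)) = 1 := by rw [← hb, e]; rfl
      exact hρ1 (by rw [hργ]; show ρ (fa γ) = 1; rw [this, map_one])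
  haveI : Fact (Nat.Prime 3) := ⟨Nat.prime_three⟩
  have hsyl : ∀ x : G0, orderOf x = 3 → ∃ P : Sylow 3 G0, (P : Subgroup G0) = Subgroup.zpowers x := fun x hx => by
    obtain ⟨P, hP⟩ := (IsPGroup.of_card (p := 3) (n := 1) (G := Subgroup.zpowers x)
      (by rw [Nat.card_zpowers, hx, pow_one])).exists_le_sylow
    refine ⟨P, (Subgroup.eq_of_le_of_card_ge hP ?_).symm⟩
    rw [Nat.card_zpowers, hx]
    obtain ⟨c, hc⟩ := IsPGroup.iff_card.1 P.2
    refine Nat.le_of_dvd (by norm_num) ?_
    have hd := (P : Subgroup G0).card_subgroup_dvd_card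
    rw [hcard, hc] at hd
    rw [hc]
    exact (Nat.Coprime.pow_left c ((Nat.prime_three.coprime_iff_not_dvd).2 hinn)).dvd_of_dvd_mul_left hd
  obtain ⟨P, hP⟩ := hsyl a hao
  obtain ⟨Q, hQ⟩ := hsyl b hbo
  obtain ⟨s, hs⟩ := MulAction.exists_smul_eq G0 Q P
  have hmem : s⁻¹ * a * s ∈ Subgroup.zpowers b := by
    have haP : a ∈ ((s • Q : Sylow 3 G0) : Subgroup G0) := by rw [hs, hP]; exact Subgroup.mem_zpowers a
    rw [Sylow.coe_subgroup_smul, Subgroup.mem_pointwise_smul_iff_inv_smul_mem, hQ] at haP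
    simpa [MulAut.smul_def, mul_assoc] using haP
  obtain ⟨i, hi⟩ := hmem
  obtain ⟨δ, hδ⟩ : ∃ δ, δ = γ ^ i := ⟨_, rfl⟩
  have hfa : (fa δ : MulAut (Cfsg.Sz F m)) = (s : MulAut (Cfsg.Sz F m))⁻¹ * φ * s := by
    have h := congrArg Subtype.val hi
    simp only [Subgroup.coe_zpow, Subgroup.coe_mul, Subgroup.coe_inv, ha, hb] at h
    rw [← h, hδ]
    exact map_zpow (faHom : (F ≃+* F) →* MulAut (Cfsg.Sz F m)) γ i
  have hδo : orderOf δ = 3 := by
    refine orderOf_eq_prime ?_ fun e => hφ3 ?_
    · rw [hδ, ← zpow_natCast, ← zpow_mul, mul_comm, zpow_mul, zpow_natCast, hγ3, one_zpow]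
    · have h1 : (fa δ : MulAut (Cfsg.Sz F m)) = 1 := by rw [e]; exact map_one faHom
      rw [hfa, mul_assoc, inv_mul_eq_one] at h1
      exact mul_eq_right.1 h1.symm
  refine not_solvable_fixed_fa hF (by omega) hδo ?_
  haveI := hsol
  have hle : (fixedSub (fa δ : MulAut (Cfsg.Sz F m))).map
      (s : MulAut (Cfsg.Sz F m)).toMonoidHom ≤ fixedSub φ := by
    rintro _ ⟨x, hx, rfl⟩
    have hx' : ((s : MulAut (Cfsg.Sz F m))⁻¹ * φ * s) x = x := by rw [← hfa]; exact hx
    rw [MulAut.mul_apply, MulAut.mul_apply] at hx'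
    show φ ((s : MulAut (Cfsg.Sz F m)) x) = (s : MulAut (Cfsg.Sz F m)) x
    have h := congrArg (s : MulAut (Cfsg.Sz F m)) hx'
    rwa [MulAut.apply_inv_self] at h
  haveI := Group.isSolvable_of_isSolvable_injective (Subgroup.inclusion_injective hle)
  exact Group.isSolvable_of_isSolvable_injective
    (f := (Subgroup.equivMapOfInjective (fixedSub (fa δ : MulAut (Cfsg.Sz F m)))
      (s : MulAut (Cfsg.Sz F m)).toMonoidHom (MulEquiv.injective _)).toMonoidHom) (MulEquiv.injective _)

/-- The theorem on components of order prime to three. -/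
theorem component_three_centralizer (h3p : ThreePrimeSimple.{u}) {G : Type u} [Group G] [Finite G] (K : Subgroup G)
    (hK : Cfsg.IsComponent K) (h3 : ¬ 3 ∣ Nat.card K) (y : G) (hy : orderOf y = 3)
    (hsol : Group.IsSolvable (Subgroup.centralizer ({y} : Set G))) :
    (∃ (F : Type) (_ : Field F) (_ : Fintype F), Fintype.card F = 8 ∧
      Nonempty (K ⧸ Subgroup.center K ≃* Cfsg.Lie.Sz F 4)) ∧
    y ∈ Subgroup.normalizer (K : Set G) ∧ (Cfsg.pCore 2 G = ⊥ → IsSimpleGroup K) := by
  classical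
  have hy3 : y ^ 3 = 1 := by rw [← hy, pow_orderOf_eq_one]
  have hyy : y * (y * y) = 1 := by rw [← hy3, pow_succ', pow_succ', pow_one]
  have hperf : commutator K = ⊤ := hK.2.1.commutator_eq_top
  have hnsol : ¬ Group.IsSolvable K := CfsgLib.Components.IsComponent.not_isSolvable hK
  haveI := hsol
  have hN : y ∈ Subgroup.normalizer (K : Set G) := by
    by_contra hN
    have hinv : ∀ g : G, g ∉ Subgroup.normalizer (K : Set G) →
        ∀ k ∈ K, ∀ l ∈ K, Commute k (g * l * g⁻¹) := fun g hg k hk l hl => by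
      have hne : K ≠ MulAut.conj g • K := fun e => hg (Subgroup.mem_normalizer_iff.2 fun x => by
        conv_rhs => rw [e]
        rw [Subgroup.mem_pointwise_smul_iff_inv_smul_mem]
        simp [MulAut.smul_def, mul_assoc])
      have h := CfsgLib.Components.components_commute hK (CfsgLib.Components.isComponent_conj hK g) hne
      have hc := Subgroup.commutator_mem_commutator hk
        (Subgroup.smul_mem_pointwise_smul l (MulAut.conj g) K hl)
      rw [h, Subgroup.mem_bot, commutatorElement_eq_one_iff_commute] at hc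
      exact hc
    have hN2 : y * y ∉ Subgroup.normalizer (K : Set G) := fun h => hN (by
      have : y = y * y * (y * y) := by rw [mul_assoc, hyy, mul_one]
      rw [this]; exact mul_mem h h)
    have a1 : ∀ k ∈ K, ∀ l ∈ K, Commute k (y * l * y⁻¹) := hinv y hN
    have a2 : ∀ k ∈ K, ∀ l ∈ K, Commute k (y * (y * l * y⁻¹) * y⁻¹) := fun k hk l hl => by
      have h := hinv (y * y) hN2 k hk l hl
      rwa [show y * y * l * (y * y)⁻¹ = y * (y * l * y⁻¹) * y⁻¹ by group] at h
    obtain ⟨c, hc⟩ : ∃ c : G → G, ∀ x, c x = y * x * y⁻¹ := ⟨fun x => y * x * y⁻¹, fun x => rfl⟩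
    have hcm : ∀ a b, c (a * b) = c a * c b := fun a b => by simp only [hc]; group
    have hc3 : ∀ a, c (c (c a)) = a := fun a => by
      have e1 : c (c (c a)) = y * (y * y) * a * (y * (y * y))⁻¹ := by simp only [hc]; group
      rw [e1, hyy]; group
    have b1 : ∀ k ∈ K, ∀ l ∈ K, Commute k (c l) := fun k hk l hl => by rw [hc]; exact a1 k hk l hl
    have b2 : ∀ k ∈ K, ∀ l ∈ K, Commute k (c (c l)) := fun k hk l hl => by rw [hc, hc]; exact a2 k hk l hl
    have b12 : ∀ k ∈ K, ∀ l ∈ K, Commute (c k) (c (c l)) := fun k hk l hl => by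
      have h := b1 k hk l hl
      show c k * c (c l) = c (c l) * c k
      rw [← hcm, ← hcm, h.eq]
    let f0 : K →* G :=
      { toFun := fun k => (k : G) * c k * c (c k)
        map_one' := by simp [hc]
        map_mul' := fun k l => by
          show ((k : G) * l) * c ((k : G) * l) * c (c ((k : G) * l)) =
            ((k : G) * c k * c (c k)) * ((l : G) * c l * c (c l))
          rw [hcm, hcm]
          have e1 := (b1 (l : G) l.2 (k : G) k.2).eq
          have e2 := (b2 (l : G) l.2 (k : G) k.2).eq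
          have e3 := (b12 (l : G) l.2 (k : G) k.2).eq
          calc (k : G) * l * (c k * c l) * (c (c k) * c (c l))
              = k * (l * c k) * (c l * c (c k)) * c (c l) := by group
            _ = k * (c k * l) * (c (c k) * c l) * c (c l) := by rw [e1, e3]
            _ = k * c k * (l * c (c k)) * c l * c (c l) := by group
            _ = k * c k * (c (c k) * l) * c l * c (c l) := by rw [e2]
            _ = _ := by group }
    let f : K →* Subgroup.centralizer ({y} : Set G) := f0.codRestrict _ fun k => by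
      rw [Subgroup.mem_centralizer_singleton_iff]
      show (k : G) * c k * c (c k) * y = y * ((k : G) * c k * c (c k))
      refine (mul_inv_eq_iff_eq_mul.1 ?_).symm
      have h := ((b1 (k : G) k.2 (k : G) k.2).mul_right (b2 (k : G) k.2 (k : G) k.2)).eq
      calc y * ((k : G) * c k * c (c k)) * y⁻¹ = c k * c (c k) * c (c (c k)) := by simp only [hc]; group
        _ = _ := by rw [hc3, ← h, mul_assoc]
    have hker : f.ker ≤ Subgroup.center K := fun k hk => by
      have h1 : (k : G) * c k * c (c k) = 1 := congrArg Subtype.val (MonoidHom.mem_ker.1 hk)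
      refine Subgroup.mem_center_iff.2 fun l => Subtype.ext ?_
      have hkk : (k : G) = (c k * c (c k))⁻¹ := eq_inv_of_mul_eq_one_left (by rw [← mul_assoc]; exact h1)
      show (l : G) * k = k * l
      rw [hkk]
      exact ((b1 (l : G) l.2 (k : G) k.2).mul_right (b2 (l : G) l.2 (k : G) k.2)).inv_right.eq
    haveI : Group.IsSolvable f.ker := by
      haveI : Group.IsSolvable (Subgroup.center K) :=
        Group.isSolvable_of_comm fun a b => Subtype.ext (Subgroup.mem_center_iff.1 b.2 a.1)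
      exact Group.isSolvable_of_isSolvable_injective (Subgroup.inclusion_injective hker)
    exact hnsol (Group.isSolvable_of_ker_le_range f.ker.subtype f (by rw [Subgroup.range_subtype]))
  obtain ⟨π, hπ⟩ : ∃ π : K →* K ⧸ Subgroup.center K, π = QuotientGroup.mk' _ := ⟨_, rfl⟩
  have hπs : Function.Surjective π := by rw [hπ]; exact QuotientGroup.mk'_surjective _
  have hπk : π.ker = Subgroup.center K := by rw [hπ, QuotientGroup.ker_mk']
  have hnc : ¬ IsMulCommutative (K ⧸ Subgroup.center K) := fun hc =>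
    CfsgLib.Components.IsQuasisimple.center_ne_top hK.2 (top_le_iff.1 (by
      rw [← hperf]; exact (Subgroup.Normal.quotient_commutative_iff_commutator_le).1 hc))
  obtain ⟨F, iF, iFF, m, hm, hF, ⟨e0⟩⟩ := h3p (K ⧸ Subgroup.center K) hK.2.2 hnc
    fun h => h3 (h.trans (Subgroup.card_quotient_dvd_card _))
  haveI : CharP F 2 := charTwo_of_card hF
  obtain ⟨e, -⟩ : ∃ e : K ⧸ Subgroup.center K ≃* Cfsg.Sz F m, e = e0.trans (equivLie hm hF).symm := ⟨_, rfl⟩
  obtain ⟨α, hα⟩ : ∃ α : MulAut K, ∀ k : K, (α k : G) = y * k * y⁻¹ :=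
    ⟨K.normalizerMonoidHom ⟨y, hN⟩, fun k => rfl⟩
  have hα3 : ∀ k : K, α (α (α k)) = k := fun k => Subtype.ext (by
    rw [hα, hα, hα, show y * (y * (y * (k : G) * y⁻¹) * y⁻¹) * y⁻¹ = y * (y * y) * k * (y * (y * y))⁻¹ by group,
      hyy]
    group)
  have hZα : (Subgroup.center K).map α.toMonoidHom = Subgroup.center K :=
    Subgroup.characteristic_iff_map_eq.1 inferInstance α
  obtain ⟨φ, hφ⟩ : ∃ φ : MulAut (Cfsg.Sz F m), ∀ k : K, φ (e (π k)) = e (π (α k)) := by
    refine ⟨MulAut.congr e (QuotientGroup.congr _ _ α hZα), fun k => ?_⟩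
    subst hπ
    simp [MulAut.congr]
    rfl
  have hφ3 : φ ^ 3 = 1 := by
    ext x
    obtain ⟨k, hk⟩ := hπs (e.symm x)
    have hxe : e (π k) = x := by rw [hk, e.apply_symm_apply]
    rw [pow_succ, pow_two, MulAut.mul_apply, MulAut.mul_apply, ← hxe, hφ, hφ, hφ, hα3, MulAut.one_apply]
  have hm1 : m = 1 := by
    refine eq_one_of_solvable_fixed hF hm hφ3 ?_
    let C : Subgroup K := (Subgroup.centralizer ({y} : Set G)).subgroupOf K
    haveI : Group.IsSolvable C := Group.isSolvable_of_isSolvable_injective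
      (f := (K.subtype.comp C.subtype).codRestrict (Subgroup.centralizer ({y} : Set G)) fun x => x.2)
      fun a b h => Subtype.ext (Subtype.ext (Subtype.ext_iff.1 h :))
    have hle : fixedSub φ ≤ C.map (e.toMonoidHom.comp π) := fun x hx => by
      obtain ⟨k, hk⟩ := hπs (e.symm x)
      have hxe : e (π k) = x := by rw [hk, e.apply_symm_apply]
      rw [mem_fixedSub, ← hxe, hφ, e.injective.eq_iff] at hx
      obtain ⟨z, hz, hαk⟩ : ∃ z ∈ Subgroup.center K, α k = k * z :=
        ⟨k⁻¹ * α k, by rw [← hπk, MonoidHom.mem_ker, map_mul, map_inv, hx, inv_mul_cancel], by group⟩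
      obtain ⟨w, hw, hwz⟩ : ∃ w ∈ Subgroup.center K, z * α w = w := by
        have hco : (Nat.card (Subgroup.center K)).Coprime 3 := Nat.Coprime.symm
          (Nat.prime_three.coprime_iff_not_dvd.2 fun h => h3 (h.trans (Subgroup.card_subgroup_dvd_card _)))
        obtain ⟨⟨u, hu⟩, huz⟩ := (powCoprime hco).surjective ⟨z, hz⟩
        have huz' : u ^ 3 = z := congrArg Subtype.val huz
        have hαZ : ∀ v ∈ Subgroup.center K, α v ∈ Subgroup.center K := fun v hv => hZα.le ⟨v, hv, rfl⟩
        refine ⟨u ^ 2 * α u, mul_mem (pow_mem hu 2) (hαZ u hu), ?_⟩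
        have hu1 := hαZ u hu
        have hu2 := hαZ _ hu1
        have hzz : z * α z * α (α z) = 1 := by
          have h := hα3 k
          rw [hαk, map_mul, map_mul, hαk, map_mul, hαk] at h
          rw [← mul_right_inj k, mul_one]
          simpa [mul_assoc] using h
        have hprod : (⟨u * α u * α (α u), mul_mem (mul_mem hu hu1) hu2⟩ : Subgroup.center K) = 1 := by
          refine (powCoprime hco).injective (Subtype.ext ?_)
          show (u * α u * α (α u)) ^ 3 = (1 : K) ^ 3
          rw [(Commute.mul_left (Subgroup.mem_center_iff.1 hu2 u) (Subgroup.mem_center_iff.1 hu2 (α u))).mul_pow,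
            Commute.mul_pow (Subgroup.mem_center_iff.1 hu1 u), ← map_pow, ← map_pow, ← map_pow, huz', hzz,
            one_pow]
        have hp : u * α u * α (α u) = 1 := congrArg Subtype.val hprod
        rw [map_mul, map_pow, ← huz', show α (α u) = (u * α u)⁻¹ from eq_inv_of_mul_eq_one_right hp]
        have hcomm : Commute u (α u) := Subgroup.mem_center_iff.1 hu1 u
        rw [show u ^ 3 * (α u ^ 2 * (u * α u)⁻¹) = u ^ 3 * α u * u⁻¹ by group]
        rw [(hcomm.pow_left 3).eq, mul_assoc, ← (hcomm.pow_left 2).eq.symm]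
        group
      refine ⟨k * w, Subgroup.mem_centralizer_singleton_iff.2 ?_, ?_⟩
      · have h : (α (k * w) : G) = ((k * w : K) : G) := by rw [map_mul, hαk, mul_assoc, hwz]
        rw [hα, mul_inv_eq_iff_eq_mul] at h
        exact h.symm
      · show e (π (k * w)) = x
        rw [map_mul, show π w = 1 from MonoidHom.mem_ker.1 (hπk.ge hw), mul_one, hxe]
    haveI : Group.IsSolvable (C.map (e.toMonoidHom.comp π)) :=
      Group.isSolvable_of_surjective (f := (e.toMonoidHom.comp π).subgroupMap C)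
        (MonoidHom.subgroupMap_surjective _ C)
    exact Group.isSolvable_of_isSolvable_injective (Subgroup.inclusion_injective hle)
  subst hm1
  refine ⟨⟨F, iF, iFF, by rw [hF]; norm_num, ⟨e0⟩⟩, hN, fun hO => ?_⟩
  haveI : Finite (Cfsg.Sz F 1) := Subtype.finite
  obtain ⟨σ, hσ⟩ : ∃ σ : K →* Cfsg.Sz F 1, σ = e.toMonoidHom.comp π := ⟨_, rfl⟩
  have hσk : σ.ker = Subgroup.center K := by
    ext k
    rw [← hπk, MonoidHom.mem_ker, MonoidHom.mem_ker, hσ]
    exact e.map_eq_one_iff
  have hstem : Cfsg.IsStemExtension σ :=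
    ⟨by rw [hσ]; exact e.surjective.comp hπs, hσk.le, by rw [hperf]; exact le_top⟩
  have h4 := CfsgLib.Known.SzEight.card_ker_le hF σ hstem
  rw [hσk] at h4
  have h3Z : Nat.card (Subgroup.center K) ≠ 3 := fun h => h3 (h ▸ Subgroup.card_subgroup_dvd_card _)
  have hP : IsPGroup 2 (Subgroup.center K) := by
    have hpos : 0 < Nat.card (Subgroup.center K) := Nat.card_pos
    obtain ⟨i, hi⟩ : ∃ i, Nat.card (Subgroup.center K) = 2 ^ i := by
      rcases (show Nat.card (Subgroup.center K) = 1 ∨ Nat.card (Subgroup.center K) = 2 ∨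
        Nat.card (Subgroup.center K) = 4 by omega) with h | h | h
      · exact ⟨0, h⟩
      · exact ⟨1, h⟩
      · exact ⟨2, h⟩
    exact IsPGroup.of_card hi
  have hle : (Subgroup.center K).map K.subtype ≤ Cfsg.pCore 2 G :=
    CfsgLib.Components.subnormal_pGroup_le_pCore
      (Subgroup.IsSubnormal.trans' (Subgroup.Normal.isSubnormal inferInstance) hK.1) (hP.map _)
  rw [hO, le_bot_iff, Subgroup.map_eq_bot_iff, Subgroup.ker_subtype, le_bot_iff] at hle
  haveI : IsSimpleGroup (K ⧸ Subgroup.center K) := hK.2.2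
  have hbij : Function.Bijective π := ⟨(π.ker_eq_bot_iff).1 (hπk.trans hle), hπs⟩
  exact (MulEquiv.ofBijective π hbij).isSimpleGroup_congr.2 inferInstance

end CfsgLib.ThreePrimeUse
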