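import Cfsg.Agent.Lib.ThreePrimeUse.Basic
import Cfsg.Agent.Lib.ThreePrimeUse.SzFacts
import Cfsg.Agent.Lib.Core.MinNormal
import Cfsg.Agent.Lib.Lie.Suzuki.Subfield

/-!
Owner: helper19. Recognition of the Suzuki groups by the orders of their maximal subgroups, given the
classification of simple groups of order prime to three.
-/

set_option autoImplicit false
set_option linter.unusedSectionVars false

namespace CfsgLib.ThreePrimeUse

universe u

open CfsgLib.Lie.Suzuki

variable {G : Type u} [Group G] [Finite G]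

/-- Two groups with the same maximal subgroup orders, one of them not a prime power group. -/
theorem card_eq_of_maximal_orders {T : Type*} [Group T] [Finite T]
    (hT : ∀ l a : ℕ, l.Prime → l ^ a ∣ Nat.card T → ∃ M : Subgroup T, IsCoatom M ∧ l ^ a ∣ Nat.card M)
    (hTp : ∀ l a : ℕ, l.Prime → Nat.card T ≠ l ^ a)
    (h : ∀ k : ℕ, (∃ M : Subgroup G, IsCoatom M ∧ k = Nat.card M) ↔
      ∃ M : Subgroup T, IsCoatom M ∧ k = Nat.card M) : Nat.card G = Nat.card T := by
  have h1 : Nat.card T ∣ Nat.card G := (Nat.dvd_iff_prime_pow_dvd_dvd _ _).2 fun l a hl hd => by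
    obtain ⟨M, hM, hd'⟩ := hT l a hl hd
    obtain ⟨N, hN, e⟩ := (h _).2 ⟨M, hM, rfl⟩
    exact (e ▸ hd').trans N.card_subgroup_dvd_card
  refine Nat.dvd_antisymm ((Nat.dvd_iff_prime_pow_dvd_dvd _ _).2 fun l a hl hd => ?_) h1
  haveI := Fact.mk hl
  obtain ⟨P, hP⟩ := Sylow.exists_subgroup_card_pow_prime l hd
  have hPt : P ≠ ⊤ := fun e => by
    rw [e, Subgroup.card_top] at hP
    obtain ⟨b, -, hb⟩ := (Nat.dvd_prime_pow hl).1 (hP ▸ h1)
    exact hTp l b hl hb
  obtain ⟨M, hM, hle⟩ := (eq_top_or_exists_le_coatom P).resolve_left hPt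
  obtain ⟨N, hN, e⟩ := (h _).1 ⟨M, hM, rfl⟩
  exact (hP ▸ Subgroup.card_dvd_of_le hle).trans (e ▸ N.card_subgroup_dvd_card)

/-- The index of a complement modulo a normal subgroup. -/
theorem index_eq_relIndex {L M : Subgroup G} [L.Normal] (h : L ⊔ M = ⊤) : M.index = M.relIndex L := by
  have h1 : L.index = (L ⊓ M).relIndex M := by
    rw [Subgroup.inf_relIndex_right, ← Subgroup.relIndex_sup_right (H := M) (K := L), sup_comm, h,
      Subgroup.relIndex_top_right]
  have e1 := Subgroup.relIndex_mul_index (inf_le_left : L ⊓ M ≤ L)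
  have e2 := Subgroup.relIndex_mul_index (inf_le_right : L ⊓ M ≤ M)
  rw [← h1, ← e1, Subgroup.inf_relIndex_left, mul_comm (M.relIndex L)] at e2
  exact Nat.eq_of_mul_eq_mul_left (Nat.pos_of_ne_zero Subgroup.index_ne_zero_of_finite) e2

/-- A solvable normal subgroup lies in every maximal subgroup whose index is not a prime power. -/
theorem le_of_solvable_normal {K M : Subgroup G} [hKn : K.Normal] (hKs : Group.IsSolvable K) (hM : IsCoatom M)
    (hidx : ∀ l a : ℕ, l.Prime → M.index ≠ l ^ a) : K ≤ M := by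
  by_contra hKM
  obtain ⟨L, ⟨hLn, hLs, hLM⟩, hmin⟩ := WellFounded.has_min (wellFounded_lt (α := Subgroup G))
    {L : Subgroup G | L.Normal ∧ Group.IsSolvable L ∧ ¬ L ≤ M} ⟨K, hKn, hKs, hKM⟩
  haveI := hLn
  haveI := hLs
  haveI : Nontrivial L := (Subgroup.nontrivial_iff_ne_bot L).2 fun e => hLM (e ▸ bot_le)
  have hlt : ⁅L, L⁆ < L := by
    have h := Subgroup.map_subtype_lt_map_subtype.2 (Group.IsSolvable.commutator_lt_top_of_nontrivial (G := L))
    rwa [Subgroup.map_subtype_commutator, ← MonoidHom.range_eq_map, Subgroup.range_subtype] at h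
  have hcomm : ⁅L, L⁆ ≤ M := by
    by_contra hc
    exact hmin ⁅L, L⁆ ⟨inferInstance, Group.isSolvable_of_isSolvable_injective
      (Subgroup.inclusion_injective hlt.le), hc⟩ hlt
  have htop : L ⊔ M = ⊤ := (hM.2 _ (lt_of_le_of_ne le_sup_right fun e => hLM (e ▸ le_sup_left)))
  have hn : (L ⊓ M).Normal := by
    refine ⟨fun x hx g => ?_⟩
    have hg : g ∈ ((L ⊔ M : Subgroup G) : Set G) := by rw [htop]; trivial
    rw [Subgroup.normal_mul] at hg
    obtain ⟨l, hl, y, hy, rfl⟩ := Set.mem_mul.1 hg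
    have hx1 : y * x * y⁻¹ ∈ L := hLn.conj_mem x hx.1 y
    have hx2 : y * x * y⁻¹ ∈ M := M.mul_mem (M.mul_mem hy hx.2) (M.inv_mem hy)
    rw [show l * y * x * (l * y)⁻¹ = l * (y * x * y⁻¹) * l⁻¹ * (y * x * y⁻¹)⁻¹ * (y * x * y⁻¹) by group]
    have hc := hcomm (Subgroup.commutator_mem_commutator hl hx1)
    exact ⟨L.mul_mem (hlt.le (Subgroup.commutator_mem_commutator hl hx1)) hx1, M.mul_mem hc hx2⟩
  haveI := hn
  obtain ⟨π, hπ⟩ : ∃ π : G →* G ⧸ (L ⊓ M), π = QuotientGroup.mk' (L ⊓ M) := ⟨_, rfl⟩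
  have hker : π.ker = L ⊓ M := by rw [hπ, QuotientGroup.ker_mk']
  have hsurj : Function.Surjective π := by rw [hπ]; exact QuotientGroup.mk'_surjective _
  haveI : (L.map π).Normal := hLn.map π hsurj
  have hne : L.map π ≠ ⊥ := fun e => hLM (((Subgroup.map_eq_bot_iff L).1 e).trans (hker.le.trans inf_le_right))
  have hab : IsMulCommutative (L.map π) := by
    rw [CfsgLib.Core.isMulCommutative_iff_commutator_eq_bot, ← Subgroup.map_commutator,
      Subgroup.map_eq_bot_iff, hker]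
    exact le_inf hlt.le hcomm
  have hmin' : ∀ B : Subgroup (G ⧸ (L ⊓ M)), B.Normal → B ≤ L.map π → B = ⊥ ∨ B = L.map π := by
    intro B hBn hB
    have hCL : B.comap π ≤ L := by
      refine (Subgroup.comap_mono hB).trans ?_
      rw [Subgroup.comap_map_eq, hker]
      exact sup_le le_rfl inf_le_left
    have hBC : (B.comap π).map π = B := Subgroup.map_comap_eq_self_of_surjective hsurj B
    by_cases hCM : B.comap π ≤ M
    · left
      rw [← hBC, Subgroup.map_eq_bot_iff, hker]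
      exact le_inf hCL hCM
    · right
      have : ¬ B.comap π < L := hmin _ ⟨hBn.comap π, Group.isSolvable_of_isSolvable_injective
        (Subgroup.inclusion_injective hCL), hCM⟩
      rw [← hBC, hCL.eq_or_lt.resolve_right this]
  obtain ⟨l, hl, hpow⟩ := CfsgLib.Core.exists_prime_pow_eq_one_of_minimal_normal (L.map π) hab hne hmin'
  haveI := Fact.mk hl
  have hP : IsPGroup l (L.map π) := fun x => ⟨1, Subtype.ext (by simp [hpow x.1 x.2])⟩
  obtain ⟨a, ha⟩ := IsPGroup.iff_card.1 hP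
  refine hidx l a hl ?_
  rw [index_eq_relIndex htop, ← ha, ← Subgroup.relIndex_ker, hker, Subgroup.inf_relIndex_left]

/-- Recognition of the Suzuki groups by the orders of maximal subgroups. -/
theorem equiv_of_maximal_orders (h3p : ThreePrimeSimple.{u}) {F : Type*} [Field F] [Fintype F] [CharP F 2] {m : ℕ}
    (hm : 1 ≤ m) (hF : Fintype.card F = 2 ^ (2 * m + 1))
    (h : ∀ k : ℕ, (∃ M : Subgroup G, IsCoatom M ∧ k = Nat.card M) ↔
      ∃ M : Subgroup (Cfsg.Sz F m), IsCoatom M ∧ k = Nat.card M) :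
    Nonempty (G ≃* Cfsg.Sz F m) := by
  haveI : Finite (Cfsg.Sz F m) := Subtype.finite
  obtain ⟨r, p, P⟩ := exists_primes (m := m) hm
  obtain ⟨-, -, hprod⟩ := CIT.SzPrimeGraph.q_facts m hm
  have hT := Cfsg.Agent.S0324.result hm hF
  have hcard : Nat.card G = Nat.card (Cfsg.Sz F m) := by
    refine card_eq_of_maximal_orders (fun l a hl hd => exists_maximal hF hm hl hd) (fun l a hl e => ?_) h
    rw [hT] at e
    have e1 : r = l := (Nat.prime_dvd_prime_iff_eq P.hr hl).1
      (P.hr.dvd_of_dvd_pow (e ▸ (P.rq.mul_left _).mul_right _))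
    have e2 : p = l := (Nat.prime_dvd_prime_iff_eq P.hp hl).1 (P.hp.dvd_of_dvd_pow (e ▸ P.pq.mul_left _))
    exact P.p_not_dvd_add ((e2.trans e1.symm) ▸ P.rq)
  have hidx : ∀ M : Subgroup G, IsCoatom M → ∀ l a : ℕ, l.Prime → M.index ≠ l ^ a := fun M hM l a hl e => by
    obtain ⟨N, hN, hc⟩ := (h _).1 ⟨M, hM, rfl⟩
    refine index_not_prime_pow hF hm hN.1 l a hl (Eq.trans ?_ e)
    have e1 := M.card_mul_index
    rw [hcard, ← N.card_mul_index, hc] at e1
    exact (Nat.eq_of_mul_eq_mul_left Nat.card_pos e1).symm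
  -- a maximal subgroup of order dividing four times a torus order
  obtain ⟨N, hN, hrN⟩ := exists_maximal hF hm (a := 1) P.hr
    (by rw [pow_one, hT]; exact (P.rq.mul_left _).mul_right _)
  rw [pow_one] at hrN
  obtain ⟨M, hM, hMN⟩ := (h _).2 ⟨N, hN, rfl⟩
  obtain ⟨u, hu, hu4⟩ : ∃ u, u ∣ (2 ^ (2 * m + 1)) ^ 2 + 1 ∧ Nat.card N ∣ 4 * u := by
    rcases order_cases hF hm hN.1 with hA | ⟨u, hu, hB⟩ | ⟨k, -, hkm, hC⟩
    · rcases P.hr.dvd_mul.1 (hrN.trans hA) with h2 | h1
      · exact absurd ((pow_mul 2 (2 * m + 1) 2).symm ▸ h2) (P.two_pow _).1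
      · exact absurd h1 P.r_not_dvd_sub
    · simp only [Set.mem_insert_iff, Set.mem_singleton_iff] at hu
      rcases hu with rfl | rfl | rfl
      · rcases P.hr.dvd_mul.1 (hrN.trans hB) with h2 | h1
        · exact absurd (show r ∣ 2 ^ 2 by simpa using h2) (P.two_pow 2).1
        · exact absurd h1 P.r_not_dvd_sub
      · exact ⟨_, hprod ▸ dvd_mul_right _ _, hB⟩
      · exact ⟨_, hprod ▸ dvd_mul_left _ _, hB⟩
    · exact absurd (hC ▸ hrN) (P.r_not_dvd_small hkm)
  rw [hMN] at hu4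
  have hp : ¬ p ∣ Nat.card M := fun hd => P.p_not_dvd_add ((((P.hp.dvd_mul.1 (hd.trans hu4)).resolve_left
    fun h4 => (P.two_pow 2).2 (by simpa using h4))).trans hu)
  have hodd : ¬ 2 ∣ (2 ^ (2 * m + 1)) ^ 2 + 1 := by
    have : 2 ∣ (2 ^ (2 * m + 1)) ^ 2 := dvd_pow (dvd_pow_self 2 (by omega)) two_ne_zero
    omega
  have h8 : ¬ 8 ∣ Nat.card M := fun hd => hodd
    ((Nat.dvd_of_mul_dvd_mul_left (show (0 : ℕ) < 4 by norm_num)
      (show 4 * 2 ∣ 4 * u from hd.trans hu4)).trans hu)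
  have hsolv : ∀ K : Subgroup G, K.Normal → Group.IsSolvable K → K ≤ M := fun K hK hKs => by
    haveI := hK
    exact le_of_solvable_normal hKs hM (hidx M hM)
  -- a minimal non-solvable normal subgroup
  obtain ⟨S, ⟨hSn, hSns⟩, hmin⟩ := WellFounded.has_min (wellFounded_lt (α := Subgroup G))
    {S : Subgroup G | S.Normal ∧ ¬ Group.IsSolvable S}
    ⟨⊤, inferInstance, fun hs => hM.1 (top_le_iff.1 (hsolv ⊤ inferInstance hs))⟩
  haveI := hSn
  have hperf : commutator S = ⊤ := by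
    by_contra hne
    have hlt : ⁅S, S⁆ < S := by
      have h := Subgroup.map_subtype_lt_map_subtype.2 (lt_top_iff_ne_top.2 hne)
      rwa [Subgroup.map_subtype_commutator, ← MonoidHom.range_eq_map, Subgroup.range_subtype] at h
    haveI hs : Group.IsSolvable (⁅S, S⁆ : Subgroup G) := not_not.1 fun hns => hmin _ ⟨inferInstance, hns⟩ hlt
    haveI : Group.IsSolvable (commutator S) := by
      haveI : Group.IsSolvable ((commutator S).map S.subtype) := by rw [Subgroup.map_subtype_commutator]; exact hs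
      exact Group.isSolvable_of_isSolvable_injective
        (f := ((commutator S).equivMapOfInjective _ S.subtype_injective).toMonoidHom) (MulEquiv.injective _)
    exact hSns (Group.isSolvable_of_ker_le_range (commutator S).subtype Abelianization.of
      (by rw [Abelianization.ker_of, Subgroup.range_subtype]))
  haveI : Nontrivial S := by
    by_contra hs
    rw [not_nontrivial_iff_subsingleton] at hs
    exact hSns inferInstance
  obtain ⟨N0, ⟨hN0n, hN0t⟩, hN0max⟩ := WellFounded.has_min (wellFounded_gt (α := Subgroup S))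
    {K : Subgroup S | K.Normal ∧ K ≠ ⊤} ⟨⊥, inferInstance, bot_ne_top⟩
  haveI := hN0n
  obtain ⟨π, hπ⟩ : ∃ π : S →* S ⧸ N0, π = QuotientGroup.mk' N0 := ⟨_, rfl⟩
  have hsurj : Function.Surjective π := by rw [hπ]; exact QuotientGroup.mk'_surjective _
  have hker : π.ker = N0 := by rw [hπ, QuotientGroup.ker_mk']
  haveI : Nontrivial (S ⧸ N0) := QuotientGroup.nontrivial_iff.2 hN0t
  haveI hsimp : IsSimpleGroup (S ⧸ N0) := ⟨fun B hB => by
    by_cases hc : B.comap π = ⊤
    · right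
      rw [← Subgroup.map_comap_eq_self_of_surjective hsurj B, hc, Subgroup.map_top_of_surjective π hsurj]
    · left
      have hle : N0 ≤ B.comap π := hker.ge.trans (MonoidHom.ker_le_comap π B)
      have := hle.eq_or_lt.resolve_right fun hlt => hN0max _ ⟨hB.comap π, hc⟩ hlt
      rw [← Subgroup.map_comap_eq_self_of_surjective hsurj B, ← this, Subgroup.map_eq_bot_iff, hker]⟩
  have hnc : ¬ IsMulCommutative (S ⧸ N0) := fun hc => hN0t (top_le_iff.1 (by
    rw [← hperf]
    exact (Subgroup.Normal.quotient_commutative_iff_commutator_le).1 hc))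
  have hXT : Nat.card (S ⧸ N0) ∣ Nat.card (Cfsg.Sz F m) := by
    rw [← hcard]
    exact (Subgroup.card_quotient_dvd_card N0).trans S.card_subgroup_dvd_card
  obtain ⟨F', _, _, k, hk, hF', ⟨e⟩⟩ := h3p (S ⧸ N0) hsimp hnc fun h3 => not_three_dvd hF hm (h3.trans hXT)
  haveI : CharP F' 2 := charTwo_of_card hF'
  have hX : Nat.card (S ⧸ N0) =
      (2 ^ (2 * k + 1)) ^ 2 * ((2 ^ (2 * k + 1)) ^ 2 + 1) * (2 ^ (2 * k + 1) - 1) := by
    rw [← Cfsg.Agent.S0324.result hk hF', Nat.card_congr (e.trans (equivLie hk hF').symm).toEquiv]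
  have hSM : ¬ S ≤ M := fun hle => h8 (by
    refine ((Dvd.dvd.trans ?_ (Subgroup.card_quotient_dvd_card N0)).trans (Subgroup.card_dvd_of_le hle))
    rw [hX, ← pow_mul, mul_assoc]
    exact ((pow_dvd_pow 2 (show 3 ≤ (2 * k + 1) * 2 by omega)) : 2 ^ 3 ∣ _).mul_right _)
  have htop : S ⊔ M = ⊤ := hM.2 _ (lt_of_le_of_ne le_sup_right fun e => hSM (e ▸ le_sup_left))
  have hpS : p ∣ Nat.card S := by
    refine Dvd.dvd.trans ?_ (Subgroup.relIndex_dvd_card M S)
    rw [← index_eq_relIndex htop]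
    refine (P.hp.dvd_mul.1 ?_).resolve_left hp
    rw [M.card_mul_index, hcard, hT]
    exact P.pq.mul_left _
  have hpX : p ∣ Nat.card (S ⧸ N0) := by
    haveI := Fact.mk P.hp
    obtain ⟨x, hx⟩ := exists_prime_orderOf_dvd_card' p hpS
    have hlt : (N0.map S.subtype).normalCore < S := by
      refine lt_of_le_of_lt (Subgroup.normalCore_le _) ?_
      have h := Subgroup.map_subtype_lt_map_subtype.2 (lt_top_iff_ne_top.2 hN0t)
      rwa [← MonoidHom.range_eq_map, Subgroup.range_subtype] at h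
    have hK := hsolv _ (Subgroup.normalCore_normal _) (not_not.1 fun hns => hmin _ ⟨inferInstance, hns⟩ hlt)
    have hxK : (x : G) ∉ (N0.map S.subtype).normalCore := fun hxK => hp (by
      rw [← hx, ← Subgroup.orderOf_coe]
      exact Subgroup.orderOf_dvd_natCard _ (hK hxK))
    obtain ⟨g, hg⟩ := not_forall.1 hxK
    obtain ⟨y, hy⟩ : ∃ y : S, (y : G) = g * x * g⁻¹ := ⟨⟨_, hSn.conj_mem x x.2 g⟩, rfl⟩
    have hy1 : π y ≠ 1 := fun e' => hg ⟨y, hker ▸ MonoidHom.mem_ker.2 e', hy⟩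
    have hyp : y ^ p = 1 := Subtype.ext (by
      rw [Subgroup.coe_pow, Subgroup.coe_one, hy, conj_pow, ← hx, ← Subgroup.orderOf_coe, pow_orderOf_eq_one,
        mul_one, mul_inv_cancel])
    rw [← orderOf_eq_prime (show π y ^ p = 1 by rw [← map_pow, hyp, map_one]) hy1]
    exact orderOf_dvd_natCard _
  -- the parameter of the quotient
  have hkm : k = m := by
    refine le_antisymm ?_ ?_
    · by_contra hlt
      have hd : 2 ^ (2 * (2 * m + 1) + 1) ∣ (2 ^ (2 * m + 1)) ^ 2 *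
          (((2 ^ (2 * m + 1)) ^ 2 + 1) * (2 ^ (2 * m + 1) - 1)) := by
        rw [← mul_assoc, ← hT]
        refine Dvd.dvd.trans ?_ hXT
        rw [hX, mul_assoc, ← pow_mul]
        exact (pow_dvd_pow 2 (by omega)).mul_right _
      rw [pow_succ, ← pow_mul, mul_comm 2 (2 * m + 1)] at hd
      rcases Nat.prime_two.dvd_mul.1 (Nat.dvd_of_mul_dvd_mul_left (Nat.two_pow_pos _) hd) with h2 | h2
      · rw [pow_mul] at h2
        exact hodd h2
      · have : 2 ∣ 2 ^ (2 * m + 1) := dvd_pow_self 2 (by omega)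
        have := Nat.one_le_two_pow (n := 2 * m + 1)
        omega
    · by_contra hlt
      rw [hX] at hpX
      rcases P.hp.dvd_mul.1 hpX with h1 | h1
      · rcases P.hp.dvd_mul.1 h1 with h2 | h2
        · exact (P.two_pow ((2 * k + 1) * 2)).2 ((pow_mul 2 (2 * k + 1) 2).symm ▸ h2)
        · have h4 : p ∣ 2 ^ (4 * (2 * k + 1)) - 1 := by
            rw [show 4 * (2 * k + 1) = (2 * k + 1) * 2 * 2 by ring, pow_mul, pow_mul]
            refine h2.trans ?_
            obtain ⟨Q, hQ⟩ : ∃ Q, Q = (2 ^ (2 * k + 1)) ^ 2 := ⟨_, rfl⟩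
            rw [← hQ, ← one_pow 2, Nat.sq_sub_sq, one_pow]
            exact dvd_mul_right _ _
          have hg := Nat.dvd_gcd P.pq h4
          rw [Nat.pow_sub_one_gcd_pow_sub_one] at hg
          have hd1 : Nat.gcd (2 * m + 1) (4 * (2 * k + 1)) ∣ 2 * k + 1 := by
            refine Nat.Coprime.dvd_of_dvd_mul_left ?_ (Nat.gcd_dvd_right _ _)
            have ho : Nat.Coprime (2 * m + 1) (2 ^ 2) :=
              Nat.Coprime.pow_right _ (Nat.coprime_two_right.2 ⟨m, by ring⟩)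
            exact ho.coprime_dvd_left (Nat.gcd_dvd_left _ _)
          have := Nat.le_of_dvd (by omega) hd1
          exact P.pppd _ (Nat.gcd_pos_of_pos_left _ (by omega)) (by omega) hg
      · exact P.pppd _ (by omega) (by omega) h1
  subst hkm
  have hXc : Nat.card (S ⧸ N0) = Nat.card G := by rw [hcard, hT, hX]
  have hle := Subgroup.card_quotient_dvd_card N0
  have hSc : Nat.card S = Nat.card G :=
    Nat.dvd_antisymm S.card_subgroup_dvd_card (hXc ▸ hle)
  obtain ⟨φ, hφ⟩ : ∃ φ : S →* S ⧸ N0, Function.Bijective φ :=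
    ⟨π, (Nat.bijective_iff_surjective_and_card π).2 ⟨hsurj, hSc.trans hXc.symm⟩⟩
  haveI : Finite (Cfsg.Sz F' k) := Subtype.finite
  obtain ⟨ψ, hψ⟩ : ∃ ψ : Cfsg.Sz F' k →* Cfsg.Sz F k, Function.Bijective ψ := by
    refine ⟨subHom hk hF hF' dvd_rfl (FiniteField.ringEquivOfCardEq (hF'.trans hF.symm)).toRingHom,
      (Nat.bijective_iff_injective_and_card _).2 ⟨subHom_injective _ _ _ _ _, ?_⟩⟩
    rw [hT, Cfsg.Agent.S0324.result hk hF']
  exact ⟨(Subgroup.topEquiv.symm.trans (MulEquiv.subgroupCongr (Subgroup.eq_top_of_card_eq S hSc).symm)).trans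
    ((MulEquiv.ofBijective φ hφ).trans ((e.trans (equivLie hk hF').symm).trans (MulEquiv.ofBijective ψ hψ)))⟩

/-- The form with the group as it is defined among the groups of Lie type. -/
theorem equiv_lie_of_maximal_orders (h3p : ThreePrimeSimple.{u}) {F : Type*} [Field F] [Fintype F] (m : ℕ)
    (hm : 1 ≤ m) (hF : Fintype.card F = 2 ^ (2 * m + 1))
    (h : {k : ℕ | ∃ M : Subgroup G, IsCoatom M ∧ k = Nat.card ↥M} =
      {k : ℕ | ∃ M : Subgroup ↥(Cfsg.Lie.Sz F (2 ^ (m + 1))), IsCoatom M ∧ k = Nat.card ↥M}) :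
    Nonempty (G ≃* ↥(Cfsg.Lie.Sz F (2 ^ (m + 1)))) := by
  haveI : CharP F 2 := charTwo_of_card hF
  obtain ⟨f, -⟩ : ∃ f : Cfsg.Sz F m ≃* ↥(Cfsg.Lie.Sz F (2 ^ (m + 1))), f = equivLie hm hF := ⟨_, rfl⟩
  obtain ⟨e⟩ := equiv_of_maximal_orders h3p hm hF fun k => by
    refine (Set.ext_iff.1 h k).trans ⟨?_, ?_⟩
    · rintro ⟨M, hM, rfl⟩
      exact ⟨f.symm.mapSubgroup M, (OrderIso.isCoatom_iff _ _).2 hM,
        Nat.card_congr (f.symm.subgroupMap M).toEquiv⟩
    · rintro ⟨M, hM, rfl⟩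
      exact ⟨f.mapSubgroup M, (OrderIso.isCoatom_iff _ _).2 hM, Nat.card_congr (f.subgroupMap M).toEquiv⟩
  exact ⟨e.trans f⟩

end CfsgLib.ThreePrimeUse
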